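import Cfsg.Agent.Lib.E6Deg.Chain

/-! The degree is at least `B - 6` plus the dimension of the fixed space of the positive unipotent group. -/

set_option autoImplicit false
set_option linter.unusedSectionVars false
set_option linter.dupNamespace false
set_option maxRecDepth 100000
set_option maxHeartbeats 1000000
set_option synthInstance.maxSize 4096
set_option synthInstance.maxHeartbeats 400000

namespace CfsgLib.E6Deg

open Cfsg.Lie CfsgLib.Chev CfsgLib.Chev.Chev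

theorem cells6 : CellOK none (rad i6) := by unfold CellOK; decide +kernel

theorem exps6 : (roots (rad i6)).val.map (ncell (rad i6)) =
    ↑([0, 1, 2, 3, 3, 4, 4, 5, 5, 6, 6, 7, 7, 8, 9, 10] : List ℕ) := by
  decide +kernel

/-- The bound. -/
def bnd (q : ℕ) : ℕ := q * (q ^ 6 + q ^ 3 + 1) * (q ^ 4 + 1)

theorem bnd_eq (q : ℕ) : bnd q = q ^ 11 + q ^ 8 + q ^ 7 + q ^ 5 + q ^ 4 + q := by unfold bnd; ring

theorem uni_none (R : Rt → Bool) : uni none R = R := funext fun a => Bool.false_or _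

variable {F : Type*} [Field F] [Fintype F] {k : ℕ} {ρ : Representation ℂ (GG F) (Fin k → ℂ)}

theorem Eig_none : Module.finrank ℂ (Eig ρ none (0 : Rt → F)) = k := by
  have : Eig ρ none (0 : Rt → F) = ⊤ := eq_top_iff.2 fun v _ a ha => by simp [none] at ha
  rw [this, finrank_top, Module.finrank_fintype_fun_eq_card, Fintype.card_fin]

theorem bnd_lt_pow {q : ℕ} (hq : 2 ≤ q) : bnd q < q ^ 14 := by
  rw [bnd_eq]
  have h : ∀ a b, a ≤ b → q ^ a ≤ q ^ b := fun a b hab => Nat.pow_le_pow_right (by omega) hab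
  have h1 := h 8 11 (by norm_num)
  have h2 := h 7 11 (by norm_num)
  have h3 := h 5 11 (by norm_num)
  have h4 := h 4 11 (by norm_num)
  have h5 := h 1 11 (by norm_num)
  have h6 : 8 * q ^ 11 ≤ q ^ 14 := by
    calc 8 * q ^ 11 ≤ q ^ 3 * q ^ 11 := Nat.mul_le_mul_right _ (by simpa using Nat.pow_le_pow_left hq 3)
      _ = q ^ 14 := by rw [← pow_add]
  have h7 : 0 < q ^ 11 := by positivity
  rw [pow_one] at h5
  omega

theorem sums (p : ℕ) :
    p * (([0, 1, 2, 3, 3, 4, 4, 5, 5, 6, 6, 7, 7, 8, 9, 10] : List ℕ).map ((p + 1) ^ ·)).sum + (p + 1) ^ 3 + 1 =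
      (p + 1) ^ 11 + (p + 1) ^ 8 ∧
    p * (([0, 1, 2, 3, 3, 4, 5, 6] : List ℕ).map ((p + 1) ^ ·)).sum + (p + 1) ^ 3 + 1 =
      (p + 1) ^ 7 + (p + 1) ^ 4 ∧
    p * (([0, 1, 2, 2, 3, 4] : List ℕ).map ((p + 1) ^ ·)).sum + (p + 1) ^ 2 + 1 =
      (p + 1) ^ 5 + (p + 1) ^ 3 ∧
    p * (([0, 1, 1, 2] : List ℕ).map ((p + 1) ^ ·)).sum + (p + 1) + 1 = (p + 1) ^ 3 + (p + 1) ^ 2 ∧
    p * (([0, 0] : List ℕ).map ((p + 1) ^ ·)).sum + 2 = 2 * (p + 1) := by
  simp only [List.map_cons, List.map_nil, List.sum_cons, List.sum_nil]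
  refine ⟨?_, ?_, ?_, ?_, ?_⟩ <;> ring

theorem twice (Q : ℕ) (hQ : 2 ≤ Q) :
    Q ^ 11 + Q ^ 8 + Q ^ 7 + Q ^ 5 + Q ^ 4 + Q + 2 * Q ^ 3 + 2 ≤ 2 * Q ^ 11 + 2 * Q ^ 8 := by
  have h : ∀ a b, a ≤ b → Q ^ a ≤ Q ^ b := fun a b hab => Nat.pow_le_pow_right (by omega) hab
  have h2 := h 5 9 (by norm_num)
  have h3 := h 4 9 (by norm_num)
  have h4 := h 1 7 (by norm_num)
  have h5 := h 3 7 (by norm_num)
  have h8 : 4 ≤ Q ^ 7 := le_trans (by norm_num) (Nat.pow_le_pow_left hQ 7)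
  have hs : ∀ n, 2 * Q ^ n ≤ Q ^ (n + 1) := fun n => by
    rw [pow_succ' Q n]; exact Nat.mul_le_mul_right _ hQ
  have h9 : 2 * Q ^ 10 ≤ Q ^ 11 := hs 10
  have h10 : 2 * Q ^ 9 ≤ Q ^ 10 := hs 9
  have h11 : 2 * Q ^ 8 ≤ Q ^ 9 := hs 8
  have h12 : 2 * Q ^ 7 ≤ Q ^ 8 := hs 7
  rw [pow_one] at h4
  clear h hs
  omega

theorem pure_one (hρ : ρ.IsIrreducible) (hk : 2 ≤ k) (hB : k < bnd (Fintype.card F)) {e : Ix} (he : IsEnd e)
    (hc : CellOK none (rad e))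
    (hex : (roots (rad e)).val.map (ncell (rad e)) =
      ↑([0, 1, 2, 3, 3, 4, 4, 5, 5, 6, 6, 7, 7, 8, 9, 10] : List ℕ)) :
    Module.finrank ℂ (Eig ρ (rad e) (sgl hi (1 : F))) = 1 := by
  have hq : 2 ≤ Fintype.card F := Fintype.one_lt_card
  obtain ⟨s, hs, hpos⟩ := pure_pos he hρ hk (hB.trans (bnd_lt_pow hq))
  rw [pure_all he hi (rad_hi e he).1 hs] at hpos
  by_contra h1
  have h2 : 2 ≤ Module.finrank ℂ (Eig ρ (rad e) (sgl hi (1 : F))) := by omega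
  have h := cells_le (ρ := ρ) hc 2 fun i hi' s hs => by
    rw [uni_none, pure_all he i hi' hs]; exact h2
  rw [Eig_none, csum_eq hex] at h
  rw [bnd_eq] at hB
  generalize Fintype.card F = q at *
  obtain ⟨p, rfl⟩ : ∃ p, q = p + 1 := ⟨q - 1, by omega⟩
  rw [Nat.add_sub_cancel, mul_assoc] at h
  obtain ⟨a0, -⟩ := sums p
  have key := twice (p + 1) hq
  omega

theorem lines (hρ : ρ.IsIrreducible) (hk : 2 ≤ k) (hB : k < bnd (Fintype.card F)) :
    Line ρ none R0 (lev i1) ∧ Line ρ none (rad i6) (lev i6) ∧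
      bnd (Fintype.card F) + Module.finrank ℂ (Eig ρ S4 (0 : Rt → F)) ≤ k + 6 := by
  have b0 : Line ρ none R0 (lev i1) :=
    base ends.1 (base_ok i1 ends.1) (pure_one hρ hk hB ends.1 cells0 exps0)
  have b6 : Line ρ none (rad i6) (lev i6) :=
    base ends.2 (base_ok i6 ends.2) (pure_one hρ hk hB ends.2 cells6 exps6)
  have l1 : Line ρ R0 R1 L1 := b6.change change_norm change_ok
  have l2 : Line ρ S1 R2 L2 := l1.step i6 fun d hd => step12.at d hd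
  have l3 : Line ρ S2 R3 L3 := l2.step i5 fun d hd => step23.at d hd
  have l4 : Line ρ S3 R4 none := l3.step i4 fun d hd => step34.at d hd
  refine ⟨b0, b6, ?_⟩
  have c0 := cells_le (ρ := ρ) cells0 1 fun i hi' s hs => le_of_eq (b0 i hi' s hs).1.symm
  have c1 := cells_le (ρ := ρ) cells1 1 fun i hi' s hs => le_of_eq (l1 i hi' s hs).1.symm
  have c2 := cells_le (ρ := ρ) cells2 1 fun i hi' s hs => le_of_eq (l2 i hi' s hs).1.symm
  have c3 := cells_le (ρ := ρ) cells3 1 fun i hi' s hs => le_of_eq (l3 i hi' s hs).1.symm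
  have c4 := cells_le (ρ := ρ) cells4 1 fun i hi' s hs => le_of_eq (l4 i hi' s hs).1.symm
  rw [Eig_none, uni_none, csum_eq exps0] at c0
  rw [csum_eq exps1] at c1
  rw [csum_eq exps2] at c2
  rw [csum_eq exps3] at c3
  rw [csum_eq exps4] at c4
  have e1 : uni R0 R1 = S1 := rfl
  have e2 : uni S1 R2 = S2 := rfl
  have e3 : uni S2 R3 = S3 := rfl
  have e4 : uni S3 R4 = S4 := rfl
  rw [e1] at c1
  rw [e2] at c2
  rw [e3] at c3
  rw [e4] at c4
  rw [one_mul] at c0 c1 c2 c3 c4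
  rw [bnd_eq]
  have hq : 2 ≤ Fintype.card F := Fintype.one_lt_card
  generalize Fintype.card F = q at *
  obtain ⟨p, rfl⟩ : ∃ p, q = p + 1 := ⟨q - 1, by omega⟩
  rw [Nat.add_sub_cancel] at c0 c1 c2 c3 c4
  obtain ⟨a0, a1, a2, a3, a4⟩ := sums p
  omega

end CfsgLib.E6Deg
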