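import Cfsg.Agent.Lib.E6Deg.Torus
import Cfsg.Agent.Lib.E6Deg.Count

/-! The torus stabiliser of a line acts trivially on it. -/

set_option autoImplicit false
set_option linter.unusedSectionVars false
set_option linter.dupNamespace false
set_option maxRecDepth 100000
set_option maxHeartbeats 1000000

namespace CfsgLib.E6Deg

open Cfsg.Lie CfsgLib.Chev CfsgLib.Chev.Chev

/-- Replacing the root `θ - b` by `b`. -/
noncomputable def swap (b : Rt) (S : Rt → Bool) (a : Rt) : Bool :=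
  (S a && !decide (a = sm hi b.rev)) || decide (a = b)

/-- The condition for the replacement. -/
def SwapOK (S : Rt → Bool) (b : Rt) : Prop :=
  S (sm hi b.rev) = true ∧ S b = false ∧ Nc b (sm hi b.rev) ≠ 0 ∧ sm b (sm hi b.rev) = hi ∧
    sm hi b.rev ≠ hi ∧ b ≠ hi ∧
    ∀ a, S a = true → a ≠ b.rev ∧
      (Nc b a ≠ 0 → S (sm b a) = true ∧ (a ≠ sm hi b.rev → sm b a ≠ hi))

/-- The roots to be replaced. -/
def bA : Rt := ⟨49, by decide⟩
/-- The roots to be replaced. -/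
def bB : Rt := ⟨52, by decide⟩
/-- The roots to be replaced. -/
def bC : Rt := ⟨54, by decide⟩
/-- The roots to be replaced. -/
def bD : Rt := ⟨55, by decide⟩

theorem swapA : SwapOK R0 bA := by unfold SwapOK; decide +kernel
theorem swapB : SwapOK (swap bA R0) bB := by unfold SwapOK; decide +kernel
theorem swapC : SwapOK (swap bB (swap bA R0)) bC := by unfold SwapOK; decide +kernel
theorem swapD : SwapOK (swap bC (swap bB (swap bA R0))) bD := by unfold SwapOK; decide +kernel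

theorem swap_end : ∀ a, rad i6 a = true → swap bD (swap bC (swap bB (swap bA R0))) a = true ∨
    (lev i1 a = true ∧ stab (uni none R0) hi a = true ∧ a ≠ hi ∧ a ≠ bA.rev ∧ a ≠ bB.rev ∧ a ≠ bC.rev ∧
      a ≠ bD.rev ∧ Nc bA a = 0 ∧ Nc bB a = 0 ∧ Nc bC a = 0 ∧ Nc bD a = 0) := by decide +kernel

theorem first_stab : pair (sr i1) hi = 0 ∧ lev i6 (sr i1) = true ∧ lev i6 (sr i1).rev = true ∧
    stab (uni none (rad i6)) hi (sr i1) = true ∧ stab (uni none (rad i6)) hi (sr i1).rev = true ∧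
    rad i6 hi = true ∧ R0 hi = true := by
  decide +kernel

/-- A path of simple reflections from the highest root to the first simple root. -/
def path : List Ix :=
  [⟨1, by decide⟩, ⟨3, by decide⟩, ⟨2, by decide⟩, ⟨4, by decide⟩, ⟨3, by decide⟩, ⟨1, by decide⟩,
    ⟨5, by decide⟩, ⟨4, by decide⟩, ⟨3, by decide⟩, ⟨2, by decide⟩]

/-- The root `α₁ + α₂ + 2α₃ + 2α₄ + α₅`. -/
def beta : Rt := ⟨67, by decide⟩

theorem path_inv : ∀ i ∈ path, ∀ a, R0 (rf i a) = R0 a := by decide +kernel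

theorem path_end : path.foldl (fun r i => rf i r) hi = sr i1 ∧
    path.foldl (fun r i => rf i r) (sr i1) = beta := by decide +kernel

variable {F : Type*} [Field F] [Fintype F] {k : ℕ} {ρ : Representation ℂ (GG F) (Fin k → ℂ)}

/-- The sum over a root subgroup. -/
noncomputable def avg (ρ : Representation ℂ (GG F) (Fin k → ℂ)) (b : Rt) : Module.End ℂ (Fin k → ℂ) :=
  ∑ u : F, ρ (x b u)

theorem avg_apply (b : Rt) (v : Fin k → ℂ) : avg ρ b v = ∑ u : F, ρ (x b u) v := by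
  rw [avg, LinearMap.sum_apply]

theorem avg_hr (b r : Rt) (t : Fˣ) (v : Fin k → ℂ) : ρ (hr r t) (avg ρ b v) = avg ρ b (ρ (hr r t) v) := by
  rw [avg_apply, avg_apply, map_sum]
  refine Fintype.sum_bijective _ (mulLeft_bijective₀ (((t ^ pair r b : Fˣ) : F)) (Units.ne_zero _)) _ _ fun u => ?_
  rw [← rho_mul, hr_x, rho_mul]

theorem avg_self (b : Rt) (w : F) (v : Fin k → ℂ) : ρ (x b w) (avg ρ b v) = avg ρ b v := by
  rw [avg_apply, map_sum]
  refine Fintype.sum_equiv (Equiv.addLeft w) _ _ fun u => ?_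
  rw [Equiv.coe_addLeft, x_add, rho_mul]

theorem avg_fix {b a : Rt} (hne : a ≠ b.rev) (hN : Nc b a = 0) (w : F) {v : Fin k → ℂ}
    (hv : ρ (x a w) v = v) : ρ (x a w) (avg ρ b v) = avg ρ b v := by
  rw [avg_apply, map_sum]
  exact Finset.sum_congr rfl fun u _ => by rw [← rho_mul, conj_zero hne hN, rho_mul, hv]

theorem avg_swap {S : Rt → Bool} {b : Rt} (hok : SwapOK S b) {s : F} (hs : s ≠ 0) {v : Fin k → ℂ}
    (hv : v ∈ Eig ρ S (sgl hi s)) :
    avg ρ b v ∈ Eig ρ (swap b S) (sgl hi s) ∧ (v ≠ 0 → avg ρ b v ≠ 0) := by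
  obtain ⟨hc, hb, hN, hS, hch, hbh, hmv⟩ := hok
  have hm : ∀ u, ρ (x b u) v ∈ Eig ρ S (mv b u (sgl hi s)) := fun u =>
    move b u (fun a ha => ⟨(hmv a ha).1, fun h => ((hmv a ha).2 h).1⟩) hv
  refine ⟨fun a ha w => ?_, fun hv0 h0 => hv0 ?_⟩
  · simp only [swap, Bool.or_eq_true, Bool.and_eq_true, Bool.not_eq_true', decide_eq_false_iff_not,
      decide_eq_true_eq] at ha
    rcases ha with ⟨ha, hac⟩ | rfl
    · rw [avg_apply, map_sum, Finset.smul_sum]
      refine Finset.sum_congr rfl fun u _ => ?_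
      rw [hm u a ha w]
      congr 3
      rw [mv]; split_ifs with hN'
      · rfl
      · rw [sgl_ne (((hmv a ha).2 hN').2 hac), mul_zero, sub_zero]
    · rw [avg_self, sgl_ne hbh, zero_mul, AddChar.map_zero_eq_one, one_smul]
  · have e : ∀ u : F, mv b u (sgl hi s) (sm hi b.rev) = -((kap b (sm hi b.rev) : F) * u * s) := fun u => by
      rw [mv, if_neg hN, hS, sgl_ne hch, sgl_self, zero_sub]
    classical
    have h1 := congrArg (Pj ρ (sm hi b.rev) 0) h0
    rw [map_zero, avg_apply, map_sum, Finset.sum_eq_single (0 : F) (fun u _ hu => ?_) (by simp)] at h1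
    · rw [Pj_eigen (0 : F) 0 (fun w => by
        have := hm 0 (sm hi b.rev) hc w
        rwa [e, mul_zero, zero_mul, neg_zero] at this), if_pos rfl, x_zero, map_one, Module.End.one_apply] at h1
      exact h1
    · rw [Pj_eigen (0 : F) (-((kap b (sm hi b.rev) : F) * u * s)) (fun w => by
        have := hm u (sm hi b.rev) hc w
        rwa [e] at this), if_neg (Ne.symm (neg_ne_zero.2 (mul_ne_zero (mul_ne_zero (kap_ne hN) hu) hs)))]

theorem top_fixed (h0 : Line ρ none R0 (lev i1)) (h6 : Line ρ none (rad i6) (lev i6)) {s : F} (hs : s ≠ 0)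
    (t : Fˣ) {v : Fin k → ℂ} (hv : v ∈ Eig ρ R0 (sgl hi s)) : ρ (hr (sr i1) t) v = v := by
  obtain ⟨hp, hl, hl', hst, hst', h6m, h0m⟩ := first_stab
  obtain ⟨h1, htriv⟩ := h0 hi h0m s hs
  obtain ⟨-, htriv6⟩ := h6 hi h6m s hs
  rw [uni_none] at h1
  rw [uni_none] at htriv6
  rw [uni_none] at htriv
  have hpres : ∀ w ∈ Eig ρ R0 (sgl hi s), ρ (hr (sr i1) t) w ∈ Eig ρ R0 (sgl hi s) := fun w hw => by
    have := move_hr (sr i1) hi s t hw
    rwa [hp, zpow_zero, inv_one, Units.val_one, one_mul] at this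
  obtain ⟨χ, -, hχ⟩ := scalar h1 hpres
  by_cases hv0 : v = 0
  · rw [hv0, map_zero]
  let w := avg ρ bD (avg ρ bC (avg ρ bB (avg ρ bA v)))
  obtain ⟨a1, n1⟩ := avg_swap swapA hs hv
  obtain ⟨a2, n2⟩ := avg_swap swapB hs a1
  obtain ⟨a3, n3⟩ := avg_swap swapC hs a2
  obtain ⟨a4, n4⟩ := avg_swap swapD hs a3
  have hw0 : w ≠ 0 := n4 (n3 (n2 (n1 hv0)))
  have hw : w ∈ Eig ρ (rad i6) (sgl hi s) := by
    intro a ha u
    rcases swap_end a ha with h | ⟨hla, hsta, hah, ha1, ha2, ha3, ha4, hN1, hN2, hN3, hN4⟩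
    · exact a4 a h u
    · rw [sgl_ne hah, zero_mul, AddChar.map_zero_eq_one, one_smul]
      have hsta' := hsta
      rw [uni_none] at hsta'
      exact avg_fix ha4 hN4 u (avg_fix ha3 hN3 u (avg_fix ha2 hN2 u (avg_fix ha1 hN1 u
        (htriv a hla hsta' u v hv))))
  rw [uni_none] at hst hst'
  have hfix : ρ (hr (sr i1) t) w = w := by
    have hnr : ∀ t' : Fˣ, ρ (nr (sr i1) t') w = w := fun t' => by
      rw [nr, rho_mul, rho_mul, htriv6 _ hl hst _ w hw, htriv6 _ hl' hst' _ w hw, htriv6 _ hl hst _ w hw]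
    rw [hr, rho_mul, hnr, hnr]
  have hmap : ρ (hr (sr i1) t) w = χ • w := by
    show ρ (hr (sr i1) t) (avg ρ bD (avg ρ bC (avg ρ bB (avg ρ bA v)))) = _
    rw [avg_hr, avg_hr, avg_hr, avg_hr, hχ v hv]
    simp only [map_smul]
    rfl
  rw [hfix] at hmap
  have hχ1 : χ = 1 := smul_left_injective ℂ hw0 (show χ • w = (1 : ℂ) • w by rw [one_smul]; exact hmap.symm)
  rw [hχ v hv, hχ1, one_smul]

theorem line_fixed (h0 : Line ρ none R0 (lev i1)) (h6 : Line ρ none (rad i6) (lev i6)) {s : F} (hs : s ≠ 0)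
    (t : Fˣ) {v : Fin k → ℂ} (hv : v ∈ Eig ρ R0 (sgl (sr i1) s)) : ρ (hr beta t) v = v := by
  suffices key : ∀ (l : List Ix), (∀ i ∈ l, ∀ a, R0 (rf i a) = R0 a) → ∀ r b : Rt,
      (∀ (s : F), s ≠ 0 → ∀ w ∈ Eig ρ R0 (sgl r s), ρ (hr b t) w = w) →
      ∀ (s : F), s ≠ 0 → ∀ w ∈ Eig ρ R0 (sgl (l.foldl (fun r i => rf i r) r) s),
        ρ (hr (l.foldl (fun r i => rf i r) b) t) w = w by
    have := key path path_inv hi (sr i1) (fun s hs w hw => top_fixed h0 h6 hs t hw) s hs v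
    rw [path_end.1, path_end.2] at this
    exact this hv
  intro l
  induction l with
  | nil => exact fun _ r b h => h
  | cons i l ih =>
    intro hl r b h
    refine ih (fun j hj => hl j (List.mem_cons_of_mem _ hj)) (rf i r) (rf i b) fun s hs w hw => ?_
    have hmem : ρ (nn F i) w ∈ Eig ρ R0 (sgl r (et F i (rf i r) * s)) := by
      have := move_nn_sgl (S' := R0) i (rf i r) s (fun a ha => by rw [hl i List.mem_cons_self]; exact ha) hw
      rwa [rf_rf] at this
    have e := h _ (mul_ne_zero (et_ne i _) hs) _ hmem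
    rw [← rho_mul, hr_nn, rho_mul] at e
    exact sub_eq_zero.1 (rho_inj ρ (g := nn F i) (by rw [map_sub, e, sub_self]))

end CfsgLib.E6Deg
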