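import Cfsg.Agent.Lib.E6Deg.Top

/-! One-dimensional eigenspaces along the chain of radicals. -/

set_option autoImplicit false
set_option linter.unusedSectionVars false
set_option linter.dupNamespace false
set_option maxRecDepth 100000
set_option maxHeartbeats 1000000

namespace CfsgLib.E6Deg

open Cfsg.Lie CfsgLib.Chev CfsgLib.Chev.Chev

/-- A root stabilises the character at `r` on the set `S`. -/
noncomputable def stab (S : Rt → Bool) (r a : Rt) : Bool :=
  decide (∀ j : Rt, S j = true → Nc a j ≠ 0 → sm a j ≠ r)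

/-- The union of two sets of roots. -/
def uni (A B : Rt → Bool) (a : Rt) : Bool := A a || B a

theorem uni_iff {A B : Rt → Bool} {a : Rt} : uni A B a = true ↔ A a = true ∨ B a = true := Bool.or_eq_true_iff

/-- The roots in `L` normalise the subgroup of the roots in `S`. -/
def Norm (S L : Rt → Bool) : Prop :=
  ∀ g a, L g = true → S a = true → a ≠ g.rev ∧ (Nc g a ≠ 0 → S (sm g a) = true)

variable {F : Type*} [Field F] [Fintype F] {k : ℕ}

/-- The eigenspaces of the pure characters on `R` are lines with trivial stabilisers. -/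
def Line (ρ : Representation ℂ (GG F) (Fin k → ℂ)) (Fix R L : Rt → Bool) : Prop :=
  ∀ r, R r = true → ∀ s : F, s ≠ 0 → Module.finrank ℂ (Eig ρ (uni Fix R) (sgl r s)) = 1 ∧
    ∀ a, L a = true → stab (uni Fix R) r a = true →
      ∀ (u : F), ∀ v ∈ Eig ρ (uni Fix R) (sgl r s), ρ (x a u) v = v

variable {ρ : Representation ℂ (GG F) (Fin k → ℂ)}

theorem scalar {A : Submodule ℂ (Fin k → ℂ)} (h1 : Module.finrank ℂ A = 1) {g : GG F}
    (hg : ∀ v ∈ A, ρ g v ∈ A) : ∃ z : ℂ, z ≠ 0 ∧ ∀ v ∈ A, ρ g v = z • v := by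
  obtain ⟨⟨w, hw⟩, hw0, hgen⟩ := finrank_eq_one_iff'.1 h1
  obtain ⟨z, hz⟩ := hgen ⟨_, hg w hw⟩
  have hz' : z • w = ρ g w := congrArg Subtype.val hz
  refine ⟨z, fun h0 => ?_, fun v hv => ?_⟩
  · rw [h0, zero_smul] at hz'
    exact hw0 (Subtype.ext (rho_inj ρ hz'.symm))
  · obtain ⟨b, hb⟩ := hgen ⟨v, hv⟩
    have hb' : b • w = v := congrArg Subtype.val hb
    rw [← hb', map_smul, ← hz', smul_comm]

theorem mv_stab {S : Rt → Bool} {r g : Rt} (hg : stab S r g = true) (u s : F) {a : Rt} (ha : S a = true) :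
    mv g u (sgl r s) a = sgl r s a := by
  rw [mv]; split_ifs with hN
  · rfl
  · rw [sgl_ne (of_decide_eq_true hg a ha hN), mul_zero, sub_zero]

theorem move_stab {S : Rt → Bool} {r g : Rt}
    (hn : ∀ a, S a = true → a ≠ g.rev ∧ (Nc g a ≠ 0 → S (sm g a) = true))
    (hg : stab S r g = true) (u : F) {s : F} {v : Fin k → ℂ} (hv : v ∈ Eig ρ S (sgl r s)) :
    ρ (x g u) v ∈ Eig ρ S (sgl r s) :=
  Eig_mono (fun a ha => ⟨ha, mv_stab hg u s ha⟩) (move g u hn hv)

/-- A stabilising root which is a sum of two stabilising roots acts trivially on a line. -/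
theorem trivial_of_sum {S : Rt → Bool} {r g h : Rt}
    (hng : ∀ a, S a = true → a ≠ g.rev ∧ (Nc g a ≠ 0 → S (sm g a) = true)) (hsg : stab S r g = true)
    (hnh : ∀ a, S a = true → a ≠ h.rev ∧ (Nc h a ≠ 0 → S (sm h a) = true)) (hsh : stab S r h = true)
    (hgh : h ≠ g.rev) (hN : Nc g h ≠ 0) {s : F}
    (h1 : Module.finrank ℂ (Eig ρ S (sgl r s)) = 1) (u : F) {v : Fin k → ℂ} (hv : v ∈ Eig ρ S (sgl r s)) :
    ρ (x (sm g h) u) v = v := by
  obtain ⟨zg, hzg0, hzg⟩ := scalar h1 (fun w hw => move_stab hng hsg (-1) hw)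
  obtain ⟨zh, hzh0, hzh⟩ := scalar h1 (fun w hw => move_stab hnh hsh ((kap g h : F) * u) hw)
  have e := congrArg (fun y => ρ y v) (conj_ne hgh hN (-1) ((kap g h : F) * u))
  simp only [rho_mul] at e
  rw [show (kap g h : F) * - -1 * ((kap g h : F) * u) = u by
    rw [neg_neg, mul_one, ← mul_assoc, kap_sq hN, one_mul]] at e
  have hgv : ρ (x g (-1)) v = zg • v := hzg v hv
  rw [hgv, map_smul, hzh v hv, smul_smul] at e
  refine (sub_eq_zero.1 (rho_inj ρ (g := x g (-1) * x h ((kap g h : F) * u)) ?_))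
  rw [rho_mul, map_sub, map_sub, hzh v hv, map_smul, hgv, smul_smul, ← e, mul_comm zh zg, sub_self]

theorem base {e : Ix} (he : IsEnd e)
    (hok : ∀ r a, rad e r = true → lev e a = true → stab (rad e) r a = true →
      ∃ g, lev e g = true ∧ stab (rad e) r g = true ∧ lev e (sm a g.rev) = true ∧
        stab (rad e) r (sm a g.rev) = true ∧ sm a g.rev ≠ g.rev ∧ Nc g (sm a g.rev) ≠ 0 ∧
        sm g (sm a g.rev) = a)
    (h1 : Module.finrank ℂ (Eig ρ (rad e) (sgl hi (1 : F))) = 1) :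
    Line ρ (fun _ => false) (rad e) (lev e) := by
  intro r hr s hs
  have hu : uni (fun _ => false) (rad e) = rad e := funext fun a => Bool.false_or _
  rw [hu]
  refine ⟨(pure_all he r hr hs).trans h1, fun a ha hst u v hv => ?_⟩
  obtain ⟨g, hg, hsg, hh, hsh, hne, hN, hS⟩ := hok r a hr ha hst
  rw [← hS]
  exact trivial_of_sum (fun b hb => lev_rad e he g b hg hb) hsg (fun b hb => lev_rad e he _ b hh hb) hsh hne hN
    ((pure_all he r hr hs).trans h1) u hv

/-- Change of the presentation of a line. -/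
theorem Line.change {Fix R L Fix' R' L' : Rt → Bool} (h : Line ρ Fix R L) (hn : Norm (uni Fix R) L)
    (hok : ∀ r, R' r = true → R r = true ∧
      (∀ a, uni Fix R a = true → uni Fix' R' a = true) ∧
      (∀ a, uni Fix' R' a = true → uni Fix R a = false →
        L a = true ∧ stab (uni Fix R) r a = true ∧ a ≠ r) ∧
      ∀ a, L' a = true → stab (uni Fix' R') r a = true → L a = true ∧ stab (uni Fix R) r a = true) :
    Line ρ Fix' R' L' := by
  intro r hr s hs
  obtain ⟨hR, hsub, hnew, hL⟩ := hok r hr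
  obtain ⟨h1, ht⟩ := h r hR s hs
  have heq : Eig ρ (uni Fix' R') (sgl r s) = Eig ρ (uni Fix R) (sgl r s) := by
    refine le_antisymm (Eig_mono fun a ha => ⟨hsub a ha, rfl⟩) fun v hv a ha u => ?_
    cases hc : uni Fix R a with
    | true => exact hv a hc u
    | false =>
      obtain ⟨hLa, hst, hne⟩ := hnew a ha hc
      rw [ht a hLa hst u v hv, sgl_ne hne, zero_mul, AddChar.map_zero_eq_one, one_smul]
  rw [heq]
  exact ⟨h1, fun a ha hst => ht a (hL a ha hst).1 (hL a ha hst).2⟩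

/-- The set moved by a reflection. -/
noncomputable def img (i : Ix) (S : Rt → Bool) (a : Rt) : Bool := S (rf i a)

/-- The conditions of a step of the chain at the root `d`. -/
structure StepAt (Fix R L D L' : Rt → Bool) (i : Ix) (d : Rt) : Prop where
  mem : R (rf i d) = true ∧ R (sr i) = true ∧ R (sm d (sr i)) = true ∧ Nc d (sr i) ≠ 0 ∧
    sm d (sr i) ≠ sr i ∧ Fix d = false ∧ R d = false
  sub : ∀ a, img i (uni Fix R) a = true → a ≠ (sr i).rev →
    (uni (uni Fix R) D a = true ∧ a ≠ sr i)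
  up : ∀ a, D a = true → img i (uni Fix R) a = true
  m_mem : img i (uni Fix R) (sr i).rev = true ∧ (sr i).rev ≠ d
  m_move : ∀ a, img i (uni Fix R) a = true → a ≠ (sr i).rev → a ≠ sr i ∧
    (Nc (sr i).rev a ≠ 0 → img i (uni Fix R) (sm (sr i).rev a) = true ∧ sm (sr i).rev a ≠ (sr i).rev ∧
      sm (sr i).rev a ≠ d)
  r_move : ∀ a, img i (uni Fix R) a = true → a ≠ (sm d (sr i)).rev ∧
    (Nc (sm d (sr i)) a ≠ 0 → img i (uni Fix R) (sm (sm d (sr i)) a) = true ∧
      sm (sm d (sr i)) a ≠ (sr i).rev ∧ (a ≠ (sr i).rev → sm (sm d (sr i)) a ≠ d))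
  r_m : Nc (sm d (sr i)) (sr i).rev ≠ 0 ∧ sm (sm d (sr i)) (sr i).rev = d
  rest : ∀ a, uni Fix R a = true → a ≠ sr i → img i (uni Fix R) a = false → a ≠ sm d (sr i) →
    L (rf i a) = true ∧ stab (uni Fix R) (rf i d) (rf i a) = true ∧ a ≠ (sm d (sr i)).rev ∧
      Nc (sm d (sr i)) a = 0 ∧ a ≠ d
  a_move : ∀ a, uni (uni Fix R) D a = true → a ≠ sr i → a ≠ (sr i).rev ∧
    (Nc (sr i) a ≠ 0 → uni (uni Fix R) D (sm (sr i) a) = true ∧ sm (sr i) a ≠ sr i ∧ sm (sr i) a ≠ d)
  d_stab : L d = true ∧ stab (uni Fix R) (sr i) d = true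
  next : ∀ a, L' a = true → stab (uni (uni Fix R) D) d a = true →
    L (rf i a) = true ∧ stab (uni Fix R) (rf i d) (rf i a) = true ∧ a ≠ (sm d (sr i)).rev ∧
      (Nc (sm d (sr i)) a ≠ 0 → L (rf i (sm (sm d (sr i)) a)) = true ∧
        stab (uni Fix R) (rf i d) (rf i (sm (sm d (sr i)) a)) = true)

theorem Line.step {Fix R L D L' : Rt → Bool} (h : Line ρ Fix R L) (i : Ix)
    (hok : ∀ d, D d = true → StepAt Fix R L D L' i d) : Line ρ (uni Fix R) D L' := by
  classical
  intro d hd s hs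
  have ok := hok d hd
  obtain ⟨hRp, hRa, hRr, -, hra, hFd, hRd⟩ := ok.mem
  set W := img i (uni Fix R) with hW
  set m := (sr i).rev with hm
  set r0 := sm d (sr i) with hr0
  set p := rf i d with hp
  have hdW : W d = true := ok.up d hd
  have hdm : d ≠ m := fun e => ok.m_mem.2 e.symm
  -- the line for the moved radical
  have hE1 : Module.finrank ℂ (Eig ρ W (sgl d s)) = 1 := by
    refine le_antisymm ?_ ?_
    · rw [← (h p hRp (et F i d * s) (mul_ne_zero (et_ne i d) hs)).1]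
      refine finrank_le_of_move (nn F i) fun v hv => move_nn i (fun a ha => ⟨?_, ?_⟩) hv
      · show uni Fix R (rf i (rf i a)) = true
        rw [rf_rf]; exact ha
      · by_cases hap : a = p
        · rw [hap, sgl_self, hp, rf_rf, sgl_self]
        · rw [sgl_ne hap, sgl_ne (fun e => hap (by rw [← rf_rf i a, e])), mul_zero]
    · rw [← (h p hRp (et F i p * s) (mul_ne_zero (et_ne i p) hs)).1]
      refine finrank_le_of_move (nn F i) fun v hv => move_nn i (fun a ha => ⟨ha, ?_⟩) hv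
      by_cases had : a = d
      · rw [had, sgl_self, ← hp, sgl_self, ← mul_assoc, et_sq, one_mul]
      · rw [sgl_ne had, sgl_ne (fun e => had (by rw [← rf_rf i a, e, hp, rf_rf])), mul_zero]
  -- trivial action on this line
  have htriv : ∀ a, L (rf i a) = true → stab (uni Fix R) p (rf i a) = true →
      ∀ u : F, ∀ v ∈ Eig ρ W (sgl d s), ρ (x a u) v = v := by
    intro a hLa hst u v hv
    have hw : ρ (nn F i) v ∈ Eig ρ (uni Fix R) (sgl p (et F i d * s)) :=
      move_nn i (fun b hb => ⟨by show uni Fix R (rf i (rf i b)) = true; rw [rf_rf]; exact hb, by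
        by_cases hbp : b = p
        · rw [hbp, sgl_self, hp, rf_rf, sgl_self]
        · rw [sgl_ne hbp, sgl_ne (fun e => hbp (by rw [← rf_rf i b, e])), mul_zero]⟩) hv
    have e := (h p hRp _ (mul_ne_zero (et_ne i d) hs)).2 (rf i a) hLa hst (et F i a * u) _ hw
    rw [← rho_mul, x_nn, rf_rf, ← mul_assoc, et_sq, one_mul, rho_mul] at e
    exact sub_eq_zero.1 (rho_inj ρ (g := nn F i) (by rw [map_sub, e, sub_self]))
  -- the components along the opposite root
  set W0 : Rt → Bool := fun a => W a && !decide (a = m) with hW0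
  have hW0iff : ∀ a, W0 a = true ↔ W a = true ∧ a ≠ m := fun a => by simp [hW0]
  set T1 : Rt → Bool := fun a => uni (uni Fix R) D a && !decide (a = sr i) with hT1
  have hT1iff : ∀ a, T1 a = true ↔ uni (uni Fix R) D a = true ∧ a ≠ sr i := fun a => by simp [hT1]
  set cc : F → Rt → F := fun t a => if a = m then t else sgl d s a with hcc
  set κ : F := (kap r0 m : F) with hκ
  have hκ0 : κ ≠ 0 := kap_ne ok.r_m.1
  have hmove : ∀ (u t : F), ∀ v ∈ Eig ρ W (cc t), ρ (x r0 u) v ∈ Eig ρ W (cc (t - κ * u * s)) := by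
    intro u t v hv
    refine Eig_mono (fun a ha => ⟨ha, ?_⟩)
      (move r0 u (fun a ha => ⟨(ok.r_move a ha).1, fun hN => ((ok.r_move a ha).2 hN).1⟩) hv)
    by_cases ham : a = m
    · rw [ham, mv, if_neg ok.r_m.1, ok.r_m.2]
      simp only [hcc, if_true, if_neg hdm, sgl_self, hκ]
    · rw [mv]; split_ifs with hN
      · simp only [hcc, if_neg ham]
      · obtain ⟨-, hne, hned⟩ := (ok.r_move a ha).2 hN
        have hne' : sm r0 a ≠ m := hne
        have hned' : sm r0 a ≠ d := hned ham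
        simp only [hcc, if_neg ham, if_neg hne', sgl_ne hned', mul_zero, sub_zero]
  have hcc0 : cc 0 = sgl d s := funext fun a => by
    simp only [hcc]; split_ifs with ha
    · rw [ha, sgl_ne (Ne.symm hdm)]
    · rfl
  have hcomp : ∀ (z : Fin k → ℂ), z ∈ Eig ρ W0 (sgl d s) → ∀ t, Pj ρ m t z ∈ Eig ρ W (cc t) := by
    intro z hz t a ha u
    by_cases ham : a = m
    · rw [ham, show cc t m = t from if_pos rfl]; exact x_Pj m t u z
    · rw [show cc t a = sgl d s a from if_neg ham]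
      refine Pj_mem m t (fun b hb => ?_) hz a ((hW0iff a).2 ⟨ha, ham⟩) u
      obtain ⟨hb1, hb2⟩ := (hW0iff b).1 hb
      obtain ⟨h1, h2⟩ := ok.m_move b hb1 hb2
      refine ⟨by rw [hm, Fin.rev_rev]; exact h1, fun hN => ?_⟩
      obtain ⟨h3, h4, h5⟩ := h2 hN
      exact ⟨(hW0iff _).2 ⟨h3, h4⟩, sgl_ne h5 s⟩
  have hT1W0 : Eig ρ T1 (sgl d s) ≤ Eig ρ W0 (sgl d s) := Eig_mono fun a ha => by
    obtain ⟨h1, h2⟩ := (hW0iff a).1 ha
    exact ⟨(hT1iff a).2 (ok.sub a h1 h2), rfl⟩
  have hr0T : T1 r0 = true := (hT1iff _).2 ⟨uni_iff.2 (Or.inl (uni_iff.2 (Or.inr hRr))), hra⟩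
  have hr0d : r0 ≠ d := fun e => by rw [e, hRd] at hRr; exact Bool.false_ne_true hRr
  have hupper : Module.finrank ℂ (Eig ρ T1 (sgl d s)) ≤ 1 := by
    rw [← hE1]
    let Lz : Eig ρ T1 (sgl d s) →ₗ[ℂ] Eig ρ W (sgl d s) :=
      LinearMap.codRestrict _ ((Pj ρ m 0).comp (Submodule.subtype _))
        (fun z => by have := hcomp _ (hT1W0 z.2) 0; rw [hcc0] at this; exact this)
    refine LinearMap.finrank_le_finrank_of_injective (f := Lz) ?_
    rw [← LinearMap.ker_eq_bot, LinearMap.ker_eq_bot']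
    intro z hz
    have hz0 : Pj ρ m 0 (z : Fin k → ℂ) = 0 := congrArg Subtype.val hz
    refine Subtype.ext ?_
    have hall : ∀ t, Pj ρ m t (z : Fin k → ℂ) = 0 := by
      intro t
      set u : F := -t / (κ * s) with hu
      have hfix : ρ (x r0 u) (z : Fin k → ℂ) = z := by
        rw [z.2 r0 hr0T u, sgl_ne hr0d, zero_mul, AddChar.map_zero_eq_one, one_smul]
      rw [← hfix]
      conv_lhs => rw [← sum_Pj (ρ := ρ) m (z : Fin k → ℂ)]
      rw [map_sum, map_sum]
      refine Finset.sum_eq_zero fun t' _ => ?_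
      rw [Pj_eigen t (t' - κ * u * s) (fun w => by
        have := hmove u t' _ (hcomp _ (hT1W0 z.2) t') m ok.m_mem.1 w
        rwa [show cc (t' - κ * u * s) m = t' - κ * u * s from if_pos rfl] at this)]
      split_ifs with ht
      · rw [show t' = 0 by rw [hu] at ht; field_simp at ht; linear_combination -ht, hz0, map_zero]
      · rfl
    rw [Submodule.coe_zero, ← sum_Pj (ρ := ρ) m (z : Fin k → ℂ)]
    exact Finset.sum_eq_zero fun t _ => hall t
  -- the sum of the components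
  obtain ⟨⟨v, hv⟩, hv0, -⟩ := finrank_eq_one_iff'.1 hE1
  have hv0' : v ≠ 0 := fun e => hv0 (Subtype.ext e)
  have hvc : v ∈ Eig ρ W (cc 0) := by rw [hcc0]; exact hv
  set z : Fin k → ℂ := ∑ u : F, ρ (x r0 u) v with hz
  have hz0 : z ≠ 0 := fun e => hv0' (by
    have e1 := congrArg (Pj ρ m 0) e
    rw [map_zero, hz, map_sum, Finset.sum_eq_single (0 : F) (fun u _ hu => ?_) (by simp)] at e1
    · rw [x_zero, map_one, Module.End.one_apply,
        Pj_eigen (0 : F) 0 (fun w => by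
          have := hvc m ok.m_mem.1 w
          rwa [show cc (0 : F) m = 0 from if_pos rfl] at this), if_pos rfl] at e1
      exact e1
    · rw [Pj_eigen (0 : F) (0 - κ * u * s) (fun w => by
          have := hmove u 0 v hvc m ok.m_mem.1 w
          rwa [show cc (0 - κ * u * s) m = 0 - κ * u * s from if_pos rfl] at this), if_neg]
      rw [zero_sub]
      exact Ne.symm (neg_ne_zero.2 (mul_ne_zero (mul_ne_zero hκ0 hu) hs)))
  have hzfix : ∀ a, L (rf i a) = true → stab (uni Fix R) p (rf i a) = true → a ≠ r0.rev →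
      (Nc r0 a ≠ 0 → L (rf i (sm r0 a)) = true ∧ stab (uni Fix R) p (rf i (sm r0 a)) = true) →
      ∀ w : F, ρ (x a w) z = z := by
    intro a h1 h2 h3 h4 w
    rw [hz, map_sum]
    refine Finset.sum_congr rfl fun u _ => ?_
    by_cases hN : Nc r0 a = 0
    · rw [← rho_mul, conj_zero h3 hN, rho_mul, htriv a h1 h2 w v hv]
    · rw [← rho_mul, conj_ne h3 hN, rho_mul, rho_mul, htriv _ (h4 hN).1 (h4 hN).2 _ v hv,
        htriv a h1 h2 w v hv]
  have hzT1 : z ∈ Eig ρ T1 (sgl d s) := by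
    intro a ha w
    obtain ⟨ha1, ha2⟩ := (hT1iff a).1 ha
    by_cases haW : W a = true
    · have ham : a ≠ m := (ok.a_move a ha1 ha2).1
      refine Submodule.sum_mem (Eig ρ W0 (sgl d s)) (fun u _ => ?_) a ((hW0iff a).2 ⟨haW, ham⟩) w
      exact Eig_mono (fun b hb => ⟨((hW0iff b).1 hb).1, if_neg ((hW0iff b).1 hb).2⟩) (hmove u 0 v hvc)
    have haW' : W a = false := by simpa using haW
    have haFR : uni Fix R a = true := by
      rcases uni_iff.1 ha1 with h1 | h1
      · exact h1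
      · exact absurd ((ok.up a h1 : W a = true).symm.trans haW') (by decide)
    by_cases har : a = r0
    · rw [har, sgl_ne hr0d, zero_mul, AddChar.map_zero_eq_one, one_smul, hz, map_sum]
      refine Fintype.sum_equiv (Equiv.addLeft w) _ _ fun u => ?_
      rw [Equiv.coe_addLeft, x_add, rho_mul]
    · obtain ⟨h1, h2, h3, h4, h5⟩ := ok.rest a haFR ha2 haW' har
      rw [hzfix a h1 h2 h3 (fun hN => absurd h4 hN) w, sgl_ne h5, zero_mul, AddChar.map_zero_eq_one, one_smul]
  have h1 : Module.finrank ℂ (Eig ρ T1 (sgl d s)) = 1 := le_antisymm hupper (finrank_pos hzT1 hz0)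
  -- the root of the step acts trivially
  have hza : ∀ u : F, ρ (x (sr i) u) z = z := by
    have hpres : ∀ (u : F), ∀ w ∈ Eig ρ T1 (sgl d s), ρ (x (sr i) u) w ∈ Eig ρ T1 (sgl d s) := by
      intro u w hw
      refine Eig_mono (fun a ha => ⟨ha, ?_⟩) (move (sr i) u (fun a ha => ?_) hw)
      · obtain ⟨ha1, ha2⟩ := (hT1iff a).1 ha
        rw [mv]; split_ifs with hN
        · rfl
        · rw [sgl_ne ((ok.a_move a ha1 ha2).2 hN).2.2, mul_zero, sub_zero]
      · obtain ⟨ha1, ha2⟩ := (hT1iff a).1 ha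
        exact ⟨(ok.a_move a ha1 ha2).1, fun hN =>
          (hT1iff _).2 ⟨((ok.a_move a ha1 ha2).2 hN).1, ((ok.a_move a ha1 ha2).2 hN).2.1⟩⟩
    choose f hf0 hf using fun u => scalar h1 (hpres u)
    obtain ⟨c, hc⟩ := exists_chr f (smul_left_injective ℂ hz0 (show f 0 • z = (1 : ℂ) • z by
        rw [← hf 0 z hzT1, x_zero, map_one, one_smul]; rfl))
      (fun a b => smul_left_injective ℂ hz0 (show f (a + b) • z = (f a * f b) • z by
        rw [← hf (a + b) z hzT1, x_add, rho_mul, hf b z hzT1, map_smul, hf a z hzT1, smul_smul, mul_comm]))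
    by_cases hc0 : c = 0
    · intro u
      rw [hf u z hzT1, hc, hc0, zero_mul, AddChar.map_zero_eq_one, one_smul]
    exfalso
    have hzc : z ∈ Eig ρ (uni Fix R) (sgl (sr i) c) := by
      intro a ha w
      by_cases haa : a = sr i
      · rw [haa, sgl_self, hf w z hzT1, hc]
      · rw [sgl_ne haa, hzT1 a ((hT1iff a).2 ⟨uni_iff.2 (Or.inl ha), haa⟩) w,
          sgl_ne (show a ≠ d from fun e => by
            rw [e] at ha; rcases uni_iff.1 ha with h' | h' <;> simp [hFd, hRd] at h')]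
    obtain ⟨u, hu⟩ := ψ_ne hs
    refine hz0 (Eig_eq_zero hzT1 (a := d) ((hT1iff d).2 ⟨uni_iff.2 (Or.inr hd), fun e => ?_⟩)
      ((h (sr i) hRa c hc0).2 d ok.d_stab.1 ok.d_stab.2 u z hzc) (by rw [sgl_self]; exact hu))
    rw [e, hRa] at hRd; exact absurd hRd (by decide)
  have hzT2 : z ∈ Eig ρ (uni (uni Fix R) D) (sgl d s) := by
    intro a ha w
    by_cases haa : a = sr i
    · rw [haa, hza w, sgl_ne (fun e => by rw [← e, hRa] at hRd; exact absurd hRd (by decide)),
        zero_mul, AddChar.map_zero_eq_one, one_smul]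
    · exact hzT1 a ((hT1iff a).2 ⟨ha, haa⟩) w
  have h2 : Module.finrank ℂ (Eig ρ (uni (uni Fix R) D) (sgl d s)) = 1 :=
    le_antisymm (h1 ▸ Submodule.finrank_mono (Eig_mono fun a ha => ⟨((hT1iff a).1 ha).1, rfl⟩))
      (finrank_pos hzT2 hz0)
  refine ⟨h2, fun a ha hst u v' hv' => ?_⟩
  obtain ⟨b, hb⟩ := (finrank_eq_one_iff_of_nonzero' (⟨z, hzT2⟩ : Eig ρ (uni (uni Fix R) D) (sgl d s))
    (fun e => hz0 (congrArg Subtype.val e))).1 h2 ⟨v', hv'⟩
  have hb' : b • z = v' := congrArg Subtype.val hb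
  obtain ⟨g1, g2, g3, g4⟩ := ok.next a ha hst
  rw [← hb', map_smul, hzfix a g1 g2 g3 g4 u]

end CfsgLib.E6Deg
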