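import Cfsg.Agent.Lib.E6Deg.Eig
import Cfsg.Agent.Lib.Chev.GraphAut

/-! The pure characters of the two abelian radicals of E₆. -/

set_option autoImplicit false
set_option linter.unusedSectionVars false
set_option linter.dupNamespace false
set_option maxRecDepth 100000
set_option maxHeartbeats 1000000

namespace CfsgLib.E6Deg

open Cfsg.Lie CfsgLib.Chev CfsgLib.Chev.Chev

/-- The coefficient of a fundamental root. -/
noncomputable abbrev cf (j : Ix) (r : Rt) : ℤ := CfsgLib.Chev.chevE6.V r j

/-- The highest root. -/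
def hi : Rt := ⟨71, by decide⟩

/-- The index of the branch end. -/
def i2 : Ix := ⟨1, by decide⟩

/-- The radical of a maximal parabolic subgroup. -/
noncomputable def rad (e : Ix) (r : Rt) : Bool := decide (cf e r = 1)

/-- Its Levi roots. -/
noncomputable def lev (e : Ix) (r : Rt) : Bool := decide (cf e r = 0)

/-- The part of the radical near the highest root. -/
noncomputable def near (e : Ix) (r : Rt) : Bool := rad e r && decide (1 ≤ cf i2 r)

/-- The part of the radical far from the highest root. -/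
noncomputable def far (e : Ix) (r : Rt) : Bool := rad e r && decide (cf i2 r = 0)

/-- The two admissible indices. -/
def IsEnd (e : Ix) : Prop := e.val = 0 ∨ e.val = 5

instance (e : Ix) : Decidable (IsEnd e) := inferInstanceAs (Decidable (_ ∨ _))

theorem rad_hi : ∀ e : Ix, IsEnd e → rad e hi = true ∧ near e hi = true := by decide +kernel

theorem rad_split : ∀ e : Ix, IsEnd e → ∀ r, rad e r = true → near e r = true ∨ far e r = true := by
  decide +kernel

theorem rad_abelian : ∀ e : Ix, IsEnd e → ∀ a b, rad e a = true → rad e b = true →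
    b ≠ a.rev ∧ Nc a b = 0 := by decide +kernel

theorem lev_rad : ∀ e : Ix, IsEnd e → ∀ g a, lev e g = true → rad e a = true →
    a ≠ g.rev ∧ (Nc g a ≠ 0 → rad e (sm g a) = true) := by decide +kernel

theorem near_move : ∀ e : Ix, IsEnd e → ∀ j, near e j = true → j ≠ hi →
    Nc hi j.rev ≠ 0 ∧ lev e (sm hi j.rev) = true ∧ Nc (sm hi j.rev) j ≠ 0 ∧ sm (sm hi j.rev) j = hi ∧
      ∀ a, near e a = true → a ≠ j → Nc (sm hi j.rev) a = 0 := by decide +kernel

theorem far_move : ∀ e : Ix, IsEnd e → ∀ b₀ b, far e b₀ = true → far e b = true → b ≠ b₀ →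
    lev e (sm b₀ b.rev) = true ∧ Nc (sm b₀ b.rev) b ≠ 0 ∧ sm (sm b₀ b.rev) b = b₀ ∧
      ∀ a, rad e a = true → a ≠ b → Nc (sm b₀ b.rev) a = 0 ∨
        (near e (sm (sm b₀ b.rev) a) = true ∧ sm (sm b₀ b.rev) a ≠ hi) := by decide +kernel

theorem far_card : ∀ e : Ix, IsEnd e → ∀ b₀, far e b₀ = true →
    Fintype.card {b : Rt // far e b = true ∧ b ≠ b₀} = 4 := by decide +kernel

theorem near_card : ∀ e : Ix, IsEnd e →
    Fintype.card {b : Rt // near e b = true ∧ b ≠ hi} = 10 := by decide +kernel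

theorem rad_up : ∀ e : Ix, IsEnd e → ∀ r, rad e r = true → r ≠ hi →
    ∃ i : Ix, r < rf i r ∧ ∀ a, rad e (rf i a) = rad e a := by decide +kernel

theorem far_ne_hi : ∀ e : Ix, IsEnd e → far e hi = false := by decide +kernel

theorem near_far : ∀ e : Ix, ∀ a, near e a = true → far e a = true → False := by decide +kernel

theorem hi_torus : CfsgLib.Chev.chevE6.A i2 hi = 1 := by decide +kernel

variable {F : Type*} [Field F] [Fintype F] {k : ℕ}

/-- The function supported at one root. -/
noncomputable def sgl (r : Rt) (s : F) (a : Rt) : F := if a = r then s else 0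

theorem sgl_self (r : Rt) (s : F) : sgl r s r = s := if_pos rfl

theorem sgl_ne {r a : Rt} (h : a ≠ r) (s : F) : sgl r s a = 0 := if_neg h

theorem sgl_zero (r : Rt) : sgl r (0 : F) = 0 := funext fun a => by simp [sgl]

variable {ρ : Representation ℂ (GG F) (Fin k → ℂ)}

theorem faithful (hρ : ρ.IsIrreducible) (hk : 2 ≤ k) {g : GG F} (hg : ρ g = 1) : g = 1 := by
  haveI := CfsgLib.Chev.simpleE6 F
  rcases IsSimpleGroup.eq_bot_or_eq_top_of_normal (MonoidHom.ker ρ) inferInstance with h | h
  · rw [← Subgroup.mem_bot, ← h]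
    exact hg
  · exfalso
    have hall : ∀ y, ρ y = 1 := fun y => MonoidHom.mem_ker.1 (h ▸ Subgroup.mem_top y)
    haveI : IsSimpleOrder (Subrepresentation ρ) := hρ
    let w : Fin k → ℂ := Pi.single ⟨0, by omega⟩ 1
    let U : Subrepresentation ρ := ⟨ℂ ∙ w, fun y v hv => by rw [hall y]; exact hv⟩
    have hw : w ≠ 0 := fun h => by simpa [w] using congrFun h ⟨0, by omega⟩
    rcases IsSimpleOrder.eq_bot_or_eq_top U with hU | hU
    · exact hw (Submodule.span_singleton_eq_bot.1 (congrArg Subrepresentation.toSubmodule hU))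
    · have e : (ℂ ∙ w) = ⊤ := congrArg Subrepresentation.toSubmodule hU
      have := finrank_span_singleton (K := ℂ) hw
      rw [e, finrank_top, Module.finrank_fintype_fun_eq_card, Fintype.card_fin] at this
      omega

variable {e : Ix} (he : IsEnd e)

include he in
theorem exists_char (hρ : ρ.IsIrreducible) (hk : 2 ≤ k) :
    ∃ (c : Rt → F) (v : Fin k → ℂ), v ≠ 0 ∧ v ∈ Eig ρ (rad e) c ∧ c hi ≠ 0 := by
  classical
  obtain ⟨s, v, hs, hv⟩ : ∃ (s : F) (v : Fin k → ℂ), s ≠ 0 ∧ Pj ρ hi s v ≠ 0 := by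
    by_contra hcon
    push Not at hcon
    refine x_ne_one (F := F) hi (faithful hρ hk (LinearMap.ext fun v => ?_))
    have h0 : Pj ρ hi 0 v = v := by
      conv_rhs => rw [← sum_Pj (ρ := ρ) hi v]
      rw [Finset.sum_eq_single 0 (fun c _ hc => hcon c v hc) (by simp)]
    have e1 := x_Pj (ρ := ρ) hi 0 1 v
    rw [h0, zero_mul, AddChar.map_zero_eq_one, one_smul] at e1
    exact e1
  suffices key : ∀ T : Finset Rt, (∀ a ∈ T, rad e a = true) → hi ∉ T →
      ∃ (c : Rt → F) (w : Fin k → ℂ), w ≠ 0 ∧ c hi = s ∧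
        w ∈ Eig ρ (fun a => decide (a ∈ T ∨ a = hi)) c by
    obtain ⟨c, w, hw, hc, hm⟩ := key (Finset.univ.filter fun a => rad e a = true ∧ a ≠ hi)
      (fun a ha => (Finset.mem_filter.1 ha).2.1) (by simp)
    refine ⟨c, w, hw, Eig_mono (fun a ha => ⟨?_, rfl⟩) hm, by rw [hc]; exact hs⟩
    by_cases h : a = hi <;> simp [h, ha]
  intro T
  induction T using Finset.induction_on with
  | empty =>
    intro _ _
    refine ⟨fun _ => s, _, hv, rfl, fun a ha u => ?_⟩
    rw [show a = hi by simpa using ha]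
    exact x_Pj hi s u v
  | insert b T hb ih =>
    intro hT hnot
    rw [Finset.mem_insert, not_or] at hnot
    obtain ⟨c, w, hw, hc, hm⟩ := ih (fun a ha => hT a (Finset.mem_insert_of_mem ha)) hnot.2
    obtain ⟨d, hd⟩ : ∃ d, Pj ρ b d w ≠ 0 := by
      by_contra hcon
      push Not at hcon
      exact hw (by rw [← sum_Pj (ρ := ρ) b w]; exact Finset.sum_eq_zero fun d _ => hcon d)
    have hR : ∀ a, decide (a ∈ T ∨ a = hi) = true → rad e a = true := fun a ha => by
      rcases of_decide_eq_true ha with h | h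
      · exact hT a (Finset.mem_insert_of_mem h)
      · rw [h]; exact (rad_hi e he).1
    have hm' := Pj_mem b d (fun a ha => ⟨(rad_abelian e he b a (hT b (Finset.mem_insert_self b T)) (hR a ha)).1,
      fun hN => absurd (rad_abelian e he b a (hT b (Finset.mem_insert_self b T)) (hR a ha)).2 hN⟩) hm
    refine ⟨Function.update c b d, _, hd, ?_, fun a ha u => ?_⟩
    · rw [Function.update_of_ne hnot.1, hc]
    · by_cases hab : a = b
      · subst hab
        rw [Function.update_self]
        exact x_Pj a d u w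
      · rw [Function.update_of_ne hab]
        refine hm' a (decide_eq_true ?_) u
        simpa [hab] using ha

include he in
theorem near_clear {c : Rt → F} (hc : c hi ≠ 0) {v : Fin k → ℂ} (hv0 : v ≠ 0) (hv : v ∈ Eig ρ (rad e) c) :
    ∃ (c' : Rt → F) (v' : Fin k → ℂ), v' ≠ 0 ∧ v' ∈ Eig ρ (rad e) c' ∧ c' hi = c hi ∧
      ∀ a, near e a = true → a ≠ hi → c' a = 0 := by
  classical
  suffices key : ∀ T : Finset Rt, (∀ a ∈ T, near e a = true ∧ a ≠ hi) →
      ∃ (c' : Rt → F) (v' : Fin k → ℂ), v' ≠ 0 ∧ v' ∈ Eig ρ (rad e) c' ∧ c' hi = c hi ∧ ∀ a ∈ T, c' a = 0 by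
    obtain ⟨c', v', h1, h2, h3, h4⟩ := key (Finset.univ.filter fun a => near e a = true ∧ a ≠ hi)
      (fun a ha => (Finset.mem_filter.1 ha).2)
    exact ⟨c', v', h1, h2, h3, fun a ha hne => h4 a (Finset.mem_filter.2 ⟨Finset.mem_univ _, ha, hne⟩)⟩
  intro T
  induction T using Finset.induction_on with
  | empty => exact fun _ => ⟨c, v, hv0, hv, rfl, by simp⟩
  | insert j T hj ih =>
    intro hT
    obtain ⟨c', v', h1, h2, h3, h4⟩ := ih (fun a ha => hT a (Finset.mem_insert_of_mem ha))
    obtain ⟨hjn, hjh⟩ := hT j (Finset.mem_insert_self _ _)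
    obtain ⟨-, hg, hN, hS, hz⟩ := near_move e he j hjn hjh
    set g := sm hi j.rev
    set t : F := c' j / ((kap g j : F) * c hi) with ht
    refine ⟨mv g t c', ρ (x g t) v', fun h => h1 (rho_inj ρ h),
      move g t (fun a ha => lev_rad e he g a hg ha) h2, ?_, fun a ha => ?_⟩
    · rw [mv, if_pos (hz hi (rad_hi e he).2 (Ne.symm hjh)), h3]
    · rcases Finset.mem_insert.1 ha with rfl | ha'
      · rw [mv, if_neg hN, hS, h3, ht]
        have := kap_ne (F := F) hN
        field_simp
        ring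
      · have hne : a ≠ j := fun h => hj (h ▸ ha')
        rw [mv, if_pos (hz a (hT a ha).1 hne), h4 a ha']

include he in
/-- All values of the coordinates near the highest root occur equally often. -/
theorem near_free {c c' : Rt → F} (hc : c hi ≠ 0) (h : c' hi = c hi) :
    Module.finrank ℂ (Eig ρ (near e) c) ≤ Module.finrank ℂ (Eig ρ (near e) c') := by
  classical
  suffices key : ∀ T : Finset Rt, (∀ a ∈ T, near e a = true ∧ a ≠ hi) → ∀ c₁ : Rt → F, c₁ hi = c hi →
      (∀ a, a ∉ T → c₁ a = c a) →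
      Module.finrank ℂ (Eig ρ (near e) c) ≤ Module.finrank ℂ (Eig ρ (near e) c₁) by
    refine le_trans (key (Finset.univ.filter fun a => near e a = true ∧ a ≠ hi)
      (fun a ha => (Finset.mem_filter.1 ha).2)
      (fun a => if near e a = true ∧ a ≠ hi then c' a else c a) (by simp)
      (fun a ha => if_neg (by simpa using ha))) (Submodule.finrank_mono (Eig_mono fun a ha => ⟨ha, ?_⟩))
    by_cases hh : a = hi
    · subst hh; simp [h]
    · simp [ha, hh]
  intro T
  induction T using Finset.induction_on with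
  | empty => exact fun _ c₁ _ h1 => le_of_eq (by rw [show c₁ = c from funext fun a => h1 a (Finset.notMem_empty a)])
  | insert j T hj ih =>
    intro hT c₁ hh h1
    obtain ⟨hjn, hjh⟩ := hT j (Finset.mem_insert_self _ _)
    obtain ⟨-, hg, hN, hS, hz⟩ := near_move e he j hjn hjh
    set g := sm hi j.rev
    set t : F := (c j - c₁ j) / ((kap g j : F) * c hi) with ht
    refine le_trans (ih (fun a ha => hT a (Finset.mem_insert_of_mem ha)) (Function.update c₁ j (c j))
      (by rw [Function.update_of_ne (Ne.symm hjh), hh]) (fun a ha => ?_))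
      (finrank_le_of_move (x g t) fun v hv => Eig_mono (fun a ha => ⟨ha, ?_⟩) (move g t (fun a ha => ?_) hv))
    · by_cases haj : a = j
      · subst haj; rw [Function.update_self]
      · rw [Function.update_of_ne haj, h1 a (by simp [haj, ha])]
    · by_cases haj : a = j
      · subst haj
        rw [mv, if_neg hN, hS, Function.update_self, Function.update_of_ne (Ne.symm hjh), hh, ht]
        have := kap_ne (F := F) hN
        field_simp
        ring
      · rw [mv, if_pos (hz a ha haj), Function.update_of_ne haj]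
    · have hr : rad e a = true := (Bool.and_eq_true _ _ ▸ ha : _ ∧ _).1
      refine ⟨(lev_rad e he g a hg hr).1, fun hN' => ?_⟩
      by_cases haj : a = j
      · subst haj; rw [hS]; exact (rad_hi e he).2
      · exact absurd (hz a ha haj) hN'

include he in
/-- A further non-zero coordinate makes the orbit large. -/
theorem big_orbit {c : Rt → F} (hc : c hi ≠ 0) (hz : ∀ a, near e a = true → a ≠ hi → c a = 0)
    {v : Fin k → ℂ} (hv0 : v ≠ 0) (hv : v ∈ Eig ρ (rad e) c) {b₀ : Rt} (hb₀ : far e b₀ = true)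
    (hb : c b₀ ≠ 0) : Fintype.card F ^ 14 ≤ k := by
  classical
  have hfr : ∀ b, far e b = true → rad e b = true := fun b hb => (Bool.and_eq_true _ _ ▸ hb : _ ∧ _).1
  have hnr : ∀ b, near e b = true → rad e b = true := fun b hb => (Bool.and_eq_true _ _ ▸ hb : _ ∧ _).1
  have hb₀h : b₀ ≠ hi := fun h => by
    subst h; rw [far_ne_hi e he] at hb₀; exact absurd hb₀ (by decide)
  suffices key : ∀ T : Finset Rt, (∀ a ∈ T, far e a = true ∧ a ≠ b₀) → ∀ d : Rt → F,
      ∃ (c' : Rt → F) (w : Fin k → ℂ), w ≠ 0 ∧ w ∈ Eig ρ (rad e) c' ∧ c' hi = c hi ∧ c' b₀ = c b₀ ∧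
        (∀ a, near e a = true → a ≠ hi → c' a = 0) ∧ ∀ a ∈ T, c' a = d a by
    let B := {b : Rt // far e b = true ∧ b ≠ b₀}
    have h4 : ∀ d : B → F, ∃ (c' : Rt → F) (w : Fin k → ℂ), w ≠ 0 ∧ w ∈ Eig ρ (rad e) c' ∧ c' hi = c hi ∧
        (∀ a, near e a = true → a ≠ hi → c' a = 0) ∧ ∀ b : B, c' b.1 = d b := fun d => by
      obtain ⟨c', w, h1, h2, h3, -, h5, h6⟩ := key (Finset.univ.filter fun a => far e a = true ∧ a ≠ b₀)
        (fun a ha => (Finset.mem_filter.1 ha).2)
        (fun a => if h : far e a = true ∧ a ≠ b₀ then d ⟨a, h⟩ else 0)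
      exact ⟨c', w, h1, h2, h3, h5, fun b => by
        rw [h6 b.1 (Finset.mem_filter.2 ⟨Finset.mem_univ _, b.2⟩), dif_pos b.2]⟩
    choose cd wd hw0 hwm hwh hwn hwd using h4
    have hfour : Fintype.card F ^ 4 ≤ Module.finrank ℂ (Eig ρ (near e) (sgl hi (c hi))) := by
      have := finrank_sum_le (ρ := ρ) (rad e) cd (fun d d' hne => by
          obtain ⟨b, hb⟩ := Function.ne_iff.1 hne
          exact ⟨b.1, hfr _ b.2.1, by rw [hwd, hwd]; exact hb⟩)
        (fun d => Submodule.span ℂ {wd d}) (Eig ρ (near e) (sgl hi (c hi)))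
        (fun d => (Submodule.span_singleton_le_iff_mem _ _).2 (Eig_mono (fun a ha => ⟨hnr a ha, by
          by_cases hah : a = hi
          · rw [hah, hwh, sgl_self]
          · rw [hwn d a ha hah, sgl_ne hah]⟩) (hwm d)))
        (fun d => (Submodule.span_singleton_le_iff_mem _ _).2 (hwm d))
      rw [Finset.sum_congr rfl fun d _ => finrank_span_singleton (hw0 d)] at this
      simpa [B, far_card e he b₀ hb₀] using this
    let M := {b : Rt // near e b = true ∧ b ≠ hi}
    let cm : (M → F) → Rt → F := fun d a => if h : near e a = true ∧ a ≠ hi then d ⟨a, h⟩ else sgl hi (c hi) a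
    have hsum := finrank_sum_le (ρ := ρ) (near e) cm (fun d d' hne => by
        obtain ⟨b, hb⟩ := Function.ne_iff.1 hne
        exact ⟨b.1, b.2.1, by simp only [cm, dif_pos b.2]; exact hb⟩)
      (fun d => Eig ρ (near e) (cm d)) ⊤ (fun _ => le_top) (fun _ => le_rfl)
    rw [finrank_top, Module.finrank_fintype_fun_eq_card, Fintype.card_fin] at hsum
    refine le_trans ?_ hsum
    refine le_trans ?_ (Finset.card_nsmul_le_sum _ _ _ fun d _ => le_trans hfour (near_free he
      (by rw [sgl_self]; exact hc) (by simp [cm])))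
    rw [Finset.card_univ, smul_eq_mul, Fintype.card_fun, near_card e he, ← pow_add]
  intro T
  induction T using Finset.induction_on with
  | empty => exact fun _ _ => ⟨c, v, hv0, hv, rfl, rfl, hz, by simp⟩
  | insert b T hbT ih =>
    intro hT d
    obtain ⟨c', w, h1, h2, h3, h5, h6, h7⟩ := ih (fun a ha => hT a (Finset.mem_insert_of_mem ha)) d
    obtain ⟨hbf, hbb⟩ := hT b (Finset.mem_insert_self _ _)
    obtain ⟨hg, hN, hS, hg0⟩ := far_move e he b₀ b hb₀ hbf hbb
    set g := sm b₀ b.rev
    set t : F := (c' b - d b) / ((kap g b : F) * c b₀) with ht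
    have hsame : ∀ a, rad e a = true → a ≠ b → mv g t c' a = c' a := fun a ha hab => by
      rw [mv]; split_ifs with hN'
      · rfl
      · obtain ⟨hn, hne⟩ := (hg0 a ha hab).resolve_left hN'
        rw [h6 _ hn hne, mul_zero, sub_zero]
    have hnb : ∀ a, near e a = true → a ≠ b := fun a ha h => by
      subst h
      exact near_far e a ha hbf
    refine ⟨mv g t c', ρ (x g t) w, fun h => h1 (rho_inj ρ h),
      move g t (fun a ha => lev_rad e he g a hg ha) h2, ?_, ?_, ?_, ?_⟩
    · rw [hsame hi (rad_hi e he).1 (hnb hi (rad_hi e he).2), h3]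
    · rw [hsame b₀ (hfr _ hb₀) (Ne.symm hbb), h5]
    · exact fun a ha hne => by rw [hsame a (hnr a ha) (hnb a ha), h6 a ha hne]
    · intro a ha
      rcases Finset.mem_insert.1 ha with rfl | ha'
      · rw [mv, if_neg hN, hS, h5, ht]
        have := kap_ne (F := F) hN
        field_simp
        ring
      · rw [hsame a (hfr _ (hT a ha).1) (fun h => hbT (h ▸ ha')), h7 a ha']

include he in
theorem pure_pos (hρ : ρ.IsIrreducible) (hk : 2 ≤ k) (hsmall : k < Fintype.card F ^ 14) :
    ∃ s : F, s ≠ 0 ∧ 0 < Module.finrank ℂ (Eig ρ (rad e) (sgl hi s)) := by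
  obtain ⟨c, v, hv0, hv, hc⟩ := exists_char he hρ hk
  obtain ⟨c', v', h0, hm, hh, hz⟩ := near_clear he hc hv0 hv
  refine ⟨c hi, hc, finrank_pos (Eig_mono (fun a ha => ⟨ha, ?_⟩) hm) h0⟩
  by_cases h : a = hi
  · rw [h, sgl_self, hh]
  rw [sgl_ne h]
  rcases rad_split e he a ha with hn | hf
  · exact hz a hn h
  · by_contra hne
    have := big_orbit he (by rw [hh]; exact hc) hz h0 hm hf hne
    omega

/-- The torus makes all non-zero values equivalent. -/
theorem pure_torus {s s' : F} (hs : s ≠ 0) (hs' : s' ≠ 0) :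
    Module.finrank ℂ (Eig ρ (rad e) (sgl hi s)) ≤ Module.finrank ℂ (Eig ρ (rad e) (sgl hi s')) := by
  refine finrank_le_of_move (hh i2 (Units.mk0 (s / s') (div_ne_zero hs hs'))) fun v hv =>
    move_hh i2 _ (fun a _ => ?_) hv
  by_cases h : a = hi
  · subst h
    rw [sgl_self, sgl_self, hi_torus, zpow_one, Units.val_inv_eq_inv_val, Units.val_mk0]
    field_simp
  · rw [sgl_ne h, sgl_ne h, mul_zero]

include he in
/-- All pure characters are equivalent. -/
theorem pure_all : ∀ (r : Rt), rad e r = true → ∀ {s : F}, s ≠ 0 →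
    Module.finrank ℂ (Eig ρ (rad e) (sgl r s)) = Module.finrank ℂ (Eig ρ (rad e) (sgl hi (1 : F))) := by
  intro r
  induction h : 71 - r.val using Nat.strong_induction_on generalizing r with
  | _ n ih =>
  intro hr s hs
  by_cases hh : r = hi
  · subst hh
    exact le_antisymm (pure_torus hs one_ne_zero) (pure_torus one_ne_zero hs)
  obtain ⟨i, hlt, hinv⟩ := rad_up e he r hr hh
  have hlt' : r.val < (rf i r).val := hlt
  have hb : (rf i r).val ≤ 71 := Nat.le_pred_of_lt (rf i r).isLt
  have key := fun (s' : F) (hs' : s' ≠ 0) =>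
    ih (71 - (rf i r).val) (by omega) (rf i r) rfl (by rw [hinv]; exact hr) (s := s') hs'
  refine le_antisymm ?_ ?_
  · rw [← key (et F i r * s) (mul_ne_zero (et_ne i r) hs)]
    refine finrank_le_of_move (nn F i) fun v hv => move_nn i (fun a ha => ⟨by rw [hinv]; exact ha, ?_⟩) hv
    by_cases h : a = rf i r
    · subst h; rw [sgl_self, rf_rf, sgl_self]
    · rw [sgl_ne h, sgl_ne (fun e' => h (by rw [← e', rf_rf])), mul_zero]
  · rw [← key (et F i (rf i r) * s) (mul_ne_zero (et_ne i _) hs)]
    refine finrank_le_of_move (nn F i) fun v hv => move_nn i (fun a ha => ⟨by rw [hinv]; exact ha, ?_⟩) hv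
    by_cases h : a = r
    · subst h
      rw [sgl_self, sgl_self, ← mul_assoc, et_sq, one_mul]
    · rw [sgl_ne h, sgl_ne (fun e' => h (by rw [← rf_rf i a, e', rf_rf])), mul_zero]

end CfsgLib.E6Deg
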