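import Cfsg.Agent.Lib.E6Deg.Chain

/-! Torus elements, Weyl elements and vectors fixed by the torus. -/

set_option autoImplicit false
set_option linter.unusedSectionVars false
set_option linter.dupNamespace false
set_option maxRecDepth 100000
set_option maxHeartbeats 1000000

namespace CfsgLib.E6Deg

open Cfsg.Lie CfsgLib.Chev CfsgLib.Chev.Chev

variable {F : Type*} [Field F]

/-- The element `n_r(t)`. -/
noncomputable def nr (r : Rt) (t : Fˣ) : GG F := x r (t : F) * x r.rev (-(t : F)⁻¹) * x r (t : F)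

/-- The torus element of a coroot. -/
noncomputable def hr (r : Rt) (t : Fˣ) : GG F := nr r t * nr r (-1)

theorem hh_eq (i : Ix) (t : Fˣ) : hh i t = hr (sr i) t := rfl

theorem nn_eq (i : Ix) : nn F i = nr (sr i) 1 := rfl

/-- The pairing of a root with a coroot. -/
noncomputable def pair (r a : Rt) : ℤ := ∑ k : Ix, CfsgLib.Chev.chevE6.C r k * CfsgLib.Chev.chevE6.A k a

theorem hr_val (r : Rt) (t : Fˣ) :
    (hr r t : GL Cfsg.Lie.chevE6.Idx F) = CfsgLib.Chev.chevE6.toAlg.torus (CfsgLib.Chev.chevE6.coChar r t) :=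
  CfsgLib.Chev.chevE6.hw_eq r t

theorem hr_x (r a : Rt) (t : Fˣ) (w : F) :
    hr r t * x a w = x a (((t ^ pair r a : Fˣ) : F) * w) * hr r t := by
  refine Subtype.ext ?_
  simp only [Subgroup.coe_mul, hr_val, x_val]
  rw [CfsgLib.Chev.chevE6.toAlg.torus_xg, CfsgLib.Chev.chevE6.chi_coChar]
  rfl

theorem x_hr (r a : Rt) (t : Fˣ) (w : F) :
    x a w * hr r t = hr r t * x a (((t ^ pair r a : Fˣ)⁻¹ : Fˣ) * w) := by
  rw [hr_x, ← mul_assoc, ← Units.val_mul, mul_inv_cancel, Units.val_one, one_mul]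

theorem hr_comm (r r' : Rt) (t t' : Fˣ) : hr r t * hr r' t' = hr r' t' * hr r t := by
  refine Subtype.ext ?_
  simp only [Subgroup.coe_mul, hr_val]
  rw [← map_mul, ← map_mul, mul_comm]

theorem hr_mul (r : Rt) (a b : Fˣ) : hr r (a * b) = hr r a * hr r b :=
  Subtype.ext (CfsgLib.Chev.chevE6.hw_mul r a b)

theorem hr_one (r : Rt) : hr r (1 : Fˣ) = 1 := Subtype.ext (CfsgLib.Chev.chevE6.hw_one r)

theorem nn_hr (i : Ix) (r : Rt) (t : Fˣ) : nn F i * hr r t = hr (rf i r) t * nn F i := by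
  refine Subtype.ext ?_
  simp only [Subgroup.coe_mul, hr_val, nn_val]
  rw [CfsgLib.Chev.chevE6.torus_nw_one i (CfsgLib.Chev.chevE6.coChar (rf i r) t),
    CfsgLib.Chev.chevE6.coChar_refl, CfsgLib.Chev.chevE6.refl_refl]

theorem hr_nn (i : Ix) (r : Rt) (t : Fˣ) : hr r t * nn F i = nn F i * hr (rf i r) t := by
  rw [nn_hr, rf_rf]

theorem nr_hr_self (r : Rt) (t : Fˣ) : nr r 1 * hr r t = hr r t⁻¹ * nr r 1 :=
  Subtype.ext (CfsgLib.Chev.chevE6.nw_hw r t)

theorem nr_eq (r : Rt) (t : Fˣ) : nr r t = hr r t * nr r 1 :=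
  Subtype.ext (CfsgLib.Chev.chevE6.nw_eq_hw_mul r t)

theorem nn_nr (i : Ix) (r : Rt) (t : Fˣ) :
    nn F i * nr r t = nr (rf i r) (CfsgLib.Chev.chevE6.etaU F i r * t) * nn F i :=
  Subtype.ext (CfsgLib.Chev.chevE6.nw_conj_nw i r t)

theorem nn_sq (i : Ix) : nn F i * nn F i = hh i (-1) :=
  Subtype.ext (CfsgLib.Chev.chevE6.nw_sq (sr i))

theorem nn_x_self (i : Ix) (w : F) : nn F i * x (sr i) w = x (sr i).rev (-w) * nn F i :=
  Subtype.ext (CfsgLib.Chev.chevE6.nw_xg_self (sr i) w)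

variable [Fintype F] {k : ℕ} (ρ : Representation ℂ (GG F) (Fin k → ℂ))

/-- Vectors fixed by the torus. -/
def TF : Submodule ℂ (Fin k → ℂ) where
  carrier := {v | ∀ (i : Ix) (t : Fˣ), ρ (hh i t) v = v}
  zero_mem' := fun _ _ => map_zero _
  add_mem' := fun {v w} hv hw i t => by rw [map_add, hv i t, hw i t]
  smul_mem' := fun z v hv i t => by rw [map_smul, hv i t]

variable {ρ}

theorem fix_prod {v : Fin k → ℂ} (l : List (GG F)) (h : ∀ g ∈ l, ρ g v = v) : ρ l.prod v = v := by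
  induction l with
  | nil => simp
  | cons g l ih =>
    rw [List.prod_cons, rho_mul, ih (fun g' hg' => h g' (List.mem_cons_of_mem _ hg')),
      h g List.mem_cons_self]

theorem hr_prod (r : Rt) (t : Fˣ) :
    hr r t = (List.ofFn fun k : Ix => hh k (t ^ CfsgLib.Chev.chevE6.C r k)).prod := by
  refine Subtype.ext ?_
  rw [← Subgroup.subtype_apply, ← Subgroup.subtype_apply, map_list_prod, List.map_ofFn, Subgroup.subtype_apply,
    hr_val, show (⇑(Cfsg.Lie.chevE6.group F).subtype ∘ fun k : Ix => hh k (t ^ CfsgLib.Chev.chevE6.C r k)) =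
      fun k : Ix => CfsgLib.Chev.chevE6.toAlg.torus (CfsgLib.Chev.chevE6.coChar (sr k) (t ^ CfsgLib.Chev.chevE6.C r k))
      from funext fun k => by rw [Function.comp_apply, Subgroup.subtype_apply, hh_eq, hr_val]]
  rw [show (List.ofFn fun k : Ix => CfsgLib.Chev.chevE6.toAlg.torus
      (CfsgLib.Chev.chevE6.coChar (sr k) (t ^ CfsgLib.Chev.chevE6.C r k))) =
    (List.ofFn fun k : Ix => CfsgLib.Chev.chevE6.coChar (sr k) (t ^ CfsgLib.Chev.chevE6.C r k)).map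
      CfsgLib.Chev.chevE6.toAlg.torus by rw [List.map_ofFn]; rfl, ← map_list_prod, List.prod_ofFn]
  congr 1
  funext j
  rw [Finset.prod_apply]
  simp only [CfsgLib.Chev.chevE6.coChar_p]
  simp only [Alg.cartanChar, Chev.coChar, ← zpow_mul]
  induction (Finset.univ : Finset Ix) using Finset.induction_on with
  | empty => simp
  | insert a s ha ih => rw [Finset.prod_insert ha, Finset.sum_insert ha, _root_.zpow_add, ih]

theorem TF_fix {v : Fin k → ℂ} (hv : v ∈ TF ρ) (r : Rt) (t : Fˣ) : ρ (hr r t) v = v := by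
  rw [hr_prod]
  refine fix_prod _ fun g hg => ?_
  obtain ⟨k, rfl⟩ := List.mem_ofFn.1 hg
  exact hv k _

theorem nn_TF (i : Ix) {v : Fin k → ℂ} (hv : v ∈ TF ρ) : ρ (nn F i) v ∈ TF ρ := fun j t => by
  rw [← rho_mul, hh_eq, hr_nn, rho_mul, TF_fix hv]

theorem nr_fix {r : Rt} {v : Fin k → ℂ} (hv : v ∈ TF ρ) (t : Fˣ) : ρ (nr r t) v = ρ (nr r 1) v := by
  rw [nr_eq r t, ← inv_inv t, ← nr_hr_self, rho_mul, TF_fix hv]

theorem nn_nn {i : Ix} {v : Fin k → ℂ} (hv : v ∈ TF ρ) : ρ (nn F i) (ρ (nn F i) v) = v := by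
  rw [← rho_mul, nn_sq]; exact hv i _

theorem braid_nn {i j : Ix} {r : Rt} (hi : rf i (sr j) = r) (hj : rf j (sr i) = r) {v : Fin k → ℂ}
    (hv : v ∈ TF ρ) :
    ρ (nn F i) (ρ (nn F j) (ρ (nn F i) v)) = ρ (nn F j) (ρ (nn F i) (ρ (nn F j) v)) := by
  have e : ∀ a b : Ix, rf a (sr b) = r → ρ (nn F a) (ρ (nn F b) (ρ (nn F a) v)) = ρ (nr r 1) v := fun a b h => by
    rw [← rho_mul, nn_eq b, nn_nr, rho_mul, nn_nn hv, h, nr_fix hv]
  rw [e i j hi, e j i hj]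

theorem comm_nn {i j : Ix} (hi : rf i (sr j) = sr j) {v : Fin k → ℂ} (hv : v ∈ TF ρ) :
    ρ (nn F i) (ρ (nn F j) v) = ρ (nn F j) (ρ (nn F i) v) := by
  rw [← rho_mul, nn_eq j, nn_nr, rho_mul, hi, nr_fix (nn_TF i hv)]

theorem move_hr {S : Rt → Bool} (r a : Rt) (s : F) (t : Fˣ) {v : Fin k → ℂ}
    (hv : v ∈ Eig ρ S (sgl a s)) :
    ρ (hr r t) v ∈ Eig ρ S (sgl a ((((t ^ pair r a : Fˣ)⁻¹ : Fˣ) : F) * s)) := by
  intro b hb w
  rw [← rho_mul, x_hr, rho_mul, hv b hb, map_smul]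
  congr 2
  by_cases h : b = a
  · rw [h, sgl_self, sgl_self]; ring
  · rw [sgl_ne h, sgl_ne h, zero_mul, zero_mul]

theorem move_hr_zero {S : Rt → Bool} (r : Rt) (t : Fˣ) {v : Fin k → ℂ}
    (hv : v ∈ Eig ρ S (0 : Rt → F)) : ρ (hr r t) v ∈ Eig ρ S (0 : Rt → F) := by
  intro b hb w
  rw [← rho_mul, x_hr, rho_mul, hv b hb, map_smul]
  simp

theorem move_nn_sgl {S S' : Rt → Bool} (i : Ix) (r : Rt) (s : F)
    (h : ∀ a, S' a = true → S (rf i a) = true) {v : Fin k → ℂ} (hv : v ∈ Eig ρ S (sgl r s)) :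
    ρ (nn F i) v ∈ Eig ρ S' (sgl (rf i r) (et F i r * s)) :=
  move_nn i (fun a ha => ⟨h a ha, by
    by_cases har : a = rf i r
    · rw [har, sgl_self, rf_rf, sgl_self]
    · rw [sgl_ne har, sgl_ne (fun e => har (by rw [← e, rf_rf])), mul_zero]⟩) hv

end CfsgLib.E6Deg
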