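import Cfsg.Agent.Lib.E6Deg.Hecke
import Cfsg.Agent.Lib.E6Deg.Form

/-! A vector fixed by the torus and the positive unipotent group on which a Hecke operator is not trivial. -/

set_option autoImplicit false
set_option linter.unusedSectionVars false
set_option linter.dupNamespace false
set_option maxRecDepth 100000
set_option maxHeartbeats 1000000
set_option synthInstance.maxSize 4096
set_option synthInstance.maxHeartbeats 400000

namespace CfsgLib.E6Deg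

open Cfsg.Lie CfsgLib.Chev CfsgLib.Chev.Chev

theorem braid_facts : rf i1 (sr i3) = r57 ∧ rf i3 (sr i1) = r57 := by decide +kernel

theorem S4_u : ∀ a, S4 a = true → a ≠ sr i3 → a ≠ sr i1 →
    Q3 a = true := by
  intro a h1 h2 h3; simp [Q3, h1, h2, h3]

theorem u_move : ∀ a, Pi' i1 a = true → a ≠ (sr i1).rev ∧ (Nc (sr i1) a ≠ 0 → Pi' i1 (sm (sr i1) a) = true) := by
  decide +kernel

variable {F : Type*} [Field F] [Fintype F] {k : ℕ} (ρ : Representation ℂ (GG F) (Fin k → ℂ))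

/-- The component measuring the fixed part. -/
noncomputable def phi : Module.End ℂ (Fin k → ℂ) :=
  Pj ρ (sr i1) 1 * Pj ρ r57 0 * ρ (nn F i1) * ρ (nn F i3)

variable {ρ}

theorem phi_apply (z : Fin k → ℂ) :
    phi ρ z = Pj ρ (sr i1) 1 (Pj ρ r57 0 (ρ (nn F i1) (ρ (nn F i3) z))) := rfl

theorem hr43 (t : Fˣ) : hr r43 t = hh i3 t * hh i4 t := by
  refine Subtype.ext ?_
  simp only [Subgroup.coe_mul, hh_eq, hr_val]
  rw [← map_mul]
  congr 1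
  funext j
  simp only [Pi.mul_apply, Chev.coChar, ← _root_.zpow_add]
  congr 1
  refine (coef43 j).trans ?_
  simp [CfsgLib.Chev.chevE6.C_p]

theorem Pj_pi {a : Rt} {S : Rt → Bool} {c : Rt → F} (d : F)
    (h : ∀ b, S b = true → b ≠ a.rev ∧ (Nc a b ≠ 0 → S (sm a b) = true ∧ c (sm a b) = 0))
    {v : Fin k → ℂ} (hv : v ∈ Eig ρ S c) {S' : Rt → Bool} {c' : Rt → F}
    (hS : ∀ b, S' b = true → b ≠ a → S b = true ∧ c b = c' b) (ha : c' a = d) :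
    Pj ρ a d v ∈ Eig ρ S' c' := by
  intro b hb u
  by_cases hba : b = a
  · rw [hba, ha]; exact x_Pj a d u v
  · rw [← (hS b hb hba).2]
    exact Pj_mem a d h hv b (hS b hb hba).1 u

variable (h0 : Line ρ none R0 (lev i1))

include h0 in
theorem line_R0 {s : F} (hs : s ≠ 0) :
    Module.finrank ℂ (Eig ρ R0 (sgl (sr i1) s)) = 1 ∧
    ∀ a, lev i1 a = true → stab (uni none R0) (sr i1) a = true →
      ∀ (u : F), ∀ v ∈ Eig ρ R0 (sgl (sr i1) s), ρ (x a u) v = v := by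
  have h := h0 (sr i1) three_ok.2.2.2.2.2.1 s hs
  rw [uni_none] at h ⊢
  exact h

include h0 in
theorem line_S4 {s : F} (hs : s ≠ 0) {v : Fin k → ℂ} (hv : v ∈ Eig ρ R0 (sgl (sr i1) s)) :
    v ∈ Eig ρ S4 (sgl (sr i1) s) := by
  intro a ha u
  cases hc : R0 a with
  | true => exact hv a hc u
  | false =>
    obtain ⟨h1, h2, h3⟩ := y_ok a ha hc
    rw [(line_R0 h0 hs).2 a h1 h2 u v hv, sgl_ne h3, zero_mul, AddChar.map_zero_eq_one, one_smul]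

include h0 in
theorem far_fix_line {s : F} (hs : s ≠ 0) {v : Fin k → ℂ} (hv : v ∈ Eig ρ R0 (sgl (sr i1) s)) {n : Fin 6}
    (hn : Rank.far n = true) (t : Fˣ) : ρ (hh (ixk n) t) v = v := by
  have hf : ∀ b, b = sr (ixk n) ∨ b = (sr (ixk n)).rev → ∀ u, ρ (x b u) v = v := fun b hb u =>
    (line_R0 h0 hs).2 b (far_ok n hn b hb).1 (far_ok n hn b hb).2.1 u v hv
  rw [hh_eq, hr, rho_mul, fixed_nr hf, fixed_nr hf]

theorem phi_low {z : Fin k → ℂ} (hz : z ∈ Eig ρ S4 (0 : Rt → F)) :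
    phi ρ z ∈ Eig ρ R0 (sgl (sr i1) (1 : F)) := by
  have e1 : ρ (nn F i3) z ∈ Eig ρ (Pi' i3) (0 : Rt → F) := (pi_zero (S4_to_pi hz fun a _ => rfl)).1
  have e2 : ρ (nn F i1) (ρ (nn F i3) z) ∈ Eig ρ Q2 (0 : Rt → F) :=
    move_nn i1 (fun a ha => ⟨Q2_img a ha, by simp⟩) e1
  have e3 : Pj ρ r57 0 (ρ (nn F i1) (ρ (nn F i3) z)) ∈ Eig ρ (Pi' i1) (0 : Rt → F) :=
    Pj_pi 0 (fun b hb => ⟨(Q2_p57 b hb).1, fun hN => ⟨((Q2_p57 b hb).2 hN).1, rfl⟩⟩) e2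
      (fun b hb hne => ⟨Q2_iff.2 ⟨(Pi'_iff.1 hb).1, (Pi'_iff.1 hb).2, hne⟩, rfl⟩) rfl
  exact Pj_pi 1 (fun b hb => ⟨(Pi1_p56 b hb).1, fun hN => ⟨((Pi1_p56 b hb).2 hN).1, rfl⟩⟩) e3
    (fun b hb hne => ⟨Pi'_iff.2 ⟨R0_pos b hb, hne⟩, (sgl_ne hne _).symm⟩) (sgl_self _ _)

include h0 in
theorem phi_top {c : F} (hc : c ≠ 0) {v : Fin k → ℂ} (hv : v ∈ Eig ρ S4 (sgl (sr i1) c)) :
    Pj ρ (sr i1) 1 (Pj ρ r57 0 (ρ (nn F i1) (ρ (nn F i3) v))) = 0 := by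
  classical
  obtain ⟨f1, f2, f3, f4, f5, f6, f7, f8, f9, f10, -⟩ := three_ok
  have e1 : ρ (nn F i3) v ∈ Eig ρ (Pi' i3) (sgl r57 (et F i3 (sr i1) * c)) := by
    have := move_nn_sgl (S' := Pi' i3) i3 (sr i1) c
      (fun a ha => (pi_ok i3 a (Pi'_iff.1 ha).1 (Pi'_iff.1 ha).2).1) hv
    rwa [f1] at this
  set σ : F := et F i1 r57 * (et F i3 (sr i1) * c) with hσ
  have hσ0 : σ ≠ 0 := mul_ne_zero (et_ne _ _) (mul_ne_zero (et_ne _ _) hc)
  have e2 : ρ (nn F i1) (ρ (nn F i3) v) ∈ Eig ρ Q2 (sgl (sr i3) σ) := by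
    have := move_nn_sgl (S' := Q2) i1 r57 (et F i3 (sr i1) * c) Q2_img e1
    rwa [f3] at this
  have e3 : Pj ρ r57 0 (ρ (nn F i1) (ρ (nn F i3) v)) ∈ Eig ρ (Pi' i1) (sgl (sr i3) σ) :=
    Pj_pi 0 (fun b hb => ⟨(Q2_p57 b hb).1, fun hN => ⟨((Q2_p57 b hb).2 hN).1, sgl_ne ((Q2_p57 b hb).2 hN).2 _⟩⟩) e2
      (fun b hb hne => ⟨Q2_iff.2 ⟨(Pi'_iff.1 hb).1, (Pi'_iff.1 hb).2, hne⟩, rfl⟩) (sgl_ne (Ne.symm f8) _)
  set cf : Rt → F := fun a => if a = sr i1 then 1 else sgl (sr i3) σ a with hcf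
  have e4 : Pj ρ (sr i1) 1 (Pj ρ r57 0 (ρ (nn F i1) (ρ (nn F i3) v))) ∈ Eig ρ S4 cf :=
    Pj_pi 1 (fun b hb => ⟨(Pi1_p56 b hb).1, fun hN => ⟨((Pi1_p56 b hb).2 hN).1, sgl_ne ((Pi1_p56 b hb).2 hN).2 _⟩⟩)
      e3 (fun b hb hne => ⟨Pi'_iff.2 ⟨hb, hne⟩, (if_neg hne).symm⟩) (if_pos rfl)
  have e5 : Pj ρ (sr i1) 1 (Pj ρ r57 0 (ρ (nn F i1) (ρ (nn F i3) v))) ∈ Eig ρ R0 (sgl (sr i1) (1 : F)) := by
    refine Eig_mono (fun a ha => ⟨R0_pos a ha, ?_⟩) e4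
    by_cases h : a = sr i1
    · rw [hcf, h, sgl_self]; exact if_pos rfl
    · simp only [hcf, if_neg h, sgl_ne h]
      exact sgl_ne (fun e => by rw [e, f7] at ha; exact absurd ha (by decide)) _
  obtain ⟨u, hu⟩ := ψ_ne hσ0
  refine Eig_eq_zero e4 (sr_pos i3) ((line_R0 h0 one_ne_zero).2 (sr i3) ?_ ?_ u _ e5) ?_
  · exact three_ok.2.2.2.2.2.2.2.2.2.2.2.2.2.2.2.2.2.1
  · exact three_ok.2.2.2.2.2.2.2.2.2.2.2.2.2.2.2.2.2.2.1
  · simp only [hcf, if_neg f10, sgl_self]; exact hu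

theorem triple (a b : Ix) (r : Rt) (h : rf a (sr b) = r) (v : Fin k → ℂ) :
    ∃ e : Fˣ, ρ (nn F a) (ρ (nn F b) (ρ (nn F a) v)) = ρ (nr r 1) (ρ (hr r e⁻¹) (ρ (hh a (-1)) v)) := by
  refine ⟨CfsgLib.Chev.chevE6.etaU F a (sr b) * 1, ?_⟩
  rw [← rho_mul (ρ := ρ) (nn F a) (nn F b), nn_eq b, nn_nr, h, rho_mul, ← rho_mul (ρ := ρ) (nn F a) (nn F a),
    nn_sq, nr_eq]
  generalize CfsgLib.Chev.chevE6.etaU F a (sr b) * 1 = e
  rw [show hr r e * nr r 1 = nr r 1 * hr r e⁻¹ by rw [nr_hr_self, inv_inv], rho_mul]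

/-- A twist of the line. -/
theorem braid_line {s : F} (hs : s ≠ 0) {y : Fin k → ℂ} (hy0 : y ≠ 0) (hy : y ∈ Eig ρ S4 (sgl (sr i1) s)) :
    ∃ (s' : F) (y' : Fin k → ℂ), s' ≠ 0 ∧ y' ≠ 0 ∧ y' ∈ Eig ρ S4 (sgl (sr i1) s') ∧
      ρ (nn F i1) (ρ (nn F i3) (ρ (nn F i1) y)) = ρ (nn F i3) (ρ (nn F i1) (ρ (nn F i3) y')) := by
  obtain ⟨a, ha⟩ := triple (ρ := ρ) i1 i3 r57 braid_facts.1 y
  have hmove : ∀ (r : Rt) (t : Fˣ) (y : Fin k → ℂ) (s : F), s ≠ 0 → y ≠ 0 → y ∈ Eig ρ S4 (sgl (sr i1) s) →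
      ∃ s' : F, s' ≠ 0 ∧ ρ (hr r t) y ≠ 0 ∧ ρ (hr r t) y ∈ Eig ρ S4 (sgl (sr i1) s') :=
    fun r t y s hs h0 hm => ⟨_, mul_ne_zero (Units.ne_zero _) hs, fun e => h0 (rho_inj ρ e),
      move_hr r (sr i1) s t hm⟩
  obtain ⟨s1, hs1, n1, m1⟩ := hmove (sr i1) (-1) y s hs hy0 hy
  obtain ⟨s2, hs2, n2, m2⟩ := hmove r57 a⁻¹ _ _ hs1 n1 m1
  have hb0 := triple (ρ := ρ) i3 i1 r57 braid_facts.2
  let b : Fˣ := CfsgLib.Chev.chevE6.etaU F i3 (sr i1) * 1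
  obtain ⟨s3, hs3, n3, m3⟩ := hmove r57 b _ _ hs2 n2 m2
  obtain ⟨s4, hs4, n4, m4⟩ := hmove (sr i3) (-1) _ _ hs3 n3 m3
  refine ⟨s4, _, hs4, n4, m4, ?_⟩
  rw [ha, ← rho_mul (ρ := ρ) (nn F i3) (nn F i1), nn_eq i1, nn_nr, braid_facts.2, rho_mul,
    ← rho_mul (ρ := ρ) (nn F i3) (nn F i3), nn_sq, nr_eq r57 (CfsgLib.Chev.chevE6.etaU F i3 (sr i1) * 1)]
  show _ = ρ (hr r57 b * nr r57 1) _
  rw [show hr r57 b * nr r57 1 = nr r57 1 * hr r57 b⁻¹ by rw [nr_hr_self, inv_inv], rho_mul,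
    hh_eq i3, hh_eq i1, ← rho_mul (ρ := ρ) (hr (sr i3) (-1)) (hr (sr i3) (-1)), ← hr_mul, neg_mul_neg, one_mul, hr_one, map_one,
    Module.End.one_apply, ← rho_mul (ρ := ρ) (hr r57 b⁻¹) (hr r57 b), ← hr_mul, inv_mul_cancel, hr_one, map_one,
    Module.End.one_apply]

include h0 in
theorem phi_ne {s : F} (hs : s ≠ 0) {y : Fin k → ℂ} (hy0 : y ≠ 0) (hy : y ∈ Eig ρ S4 (sgl (sr i1) s)) :
    phi ρ (Pj ρ (sr i1) 0 (ρ (nn F i1) y)) ≠ 0 := by
  classical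
  obtain ⟨f1, f2, f3, f4, f5, f6, f7, f8, f9, f10, -⟩ := three_ok
  have hsplit : phi ρ (ρ (nn F i1) y) = phi ρ (Pj ρ (sr i1) 0 (ρ (nn F i1) y)) := by
    conv_lhs => rw [← sum_Pj (ρ := ρ) (sr i1) (ρ (nn F i1) y), map_sum]
    refine Finset.sum_eq_single (0 : F) (fun c _ hc => ?_) (by simp)
    rw [phi_apply]
    refine phi_top h0 hc ?_
    have hn := (pi_zero (i := i1) (S4_to_pi hy fun a ha => sgl_ne ha s)).1
    exact Pj_pi c (fun b hb => ⟨(Pi1_p56 b hb).1, fun hN => ⟨((Pi1_p56 b hb).2 hN).1, rfl⟩⟩) hn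
      (fun b hb hne => ⟨Pi'_iff.2 ⟨hb, hne⟩, (sgl_ne hne c).symm⟩) (sgl_self _ _)
  rw [← hsplit, phi_apply]
  obtain ⟨s', y', hs', hy0', hy', hbr⟩ := braid_line hs hy0 hy
  rw [hbr]
  set v := ρ (nn F i3) y' with hv
  set σ : F := et F i3 (sr i1) * s' with hσ
  have hσ0 : σ ≠ 0 := mul_ne_zero (et_ne _ _) hs'
  have hvm : v ∈ Eig ρ (Pi' i3) (sgl r57 σ) := by
    have := move_nn_sgl (S' := Pi' i3) i3 (sr i1) s'
      (fun a ha => (pi_ok i3 a (Pi'_iff.1 ha).1 (Pi'_iff.1 ha).2).1) hy'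
    rwa [f1] at this
  -- moving the projections inside
  have p1 : ∀ z, Pj ρ r57 0 (ρ (nn F i3) z) = ρ (nn F i3) (Pj ρ (sr i1) 0 z) := fun z => by
    rw [Pj_comm (ρ := ρ) (nn F i3) (et F i3 (sr i1)) (et_ne _ _) (fun u => nn_x i3 (sr i1) u), f1, zero_div]
  have p2 : ∀ z, Pj ρ (sr i1) 1 (ρ (nn F i3) z) = ρ (nn F i3) (Pj ρ r57 (et F i3 r57) z) := fun z => by
    rw [Pj_comm (ρ := ρ) (nn F i3) (et F i3 r57) (et_ne _ _) (fun u => nn_x i3 r57 u), f2, div_self (et_ne _ _)]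
  have p3 : ∀ (c : F) z, Pj ρ r57 c (ρ (nn F i1) z) = ρ (nn F i1) (Pj ρ (sr i3) (c * et F i1 (sr i3)) z) :=
    fun c z => by
      rw [Pj_comm (ρ := ρ) (nn F i1) (et F i1 (sr i3)) (et_ne _ _) (fun u => nn_x i1 (sr i3) u), f4,
        mul_div_assoc, div_self (et_ne _ _), mul_one]
  rw [p1, p2]
  refine fun e => ?_
  have e' := rho_inj ρ e
  rw [Pj_swap (show sr i1 ≠ r57.rev by decide +kernel) (show Nc r57 (sr i1) = 0 by decide +kernel), p3] at e'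
  set b : F := et F i3 r57 * et F i1 (sr i3) with hb
  set cc : F → Rt → F := fun t a => if a = sr i3 then t else sgl r57 σ a with hcc
  have hcomp : ∀ t, Pj ρ (sr i3) t v ∈ Eig ρ (Pi' i1) (cc t) := fun t => by
    refine Pj_pi t (S := Q3) (c := sgl r57 σ) (fun z hz => ⟨(Q3_p42 z hz).1, fun hN =>
      ⟨((Q3_p42 z hz).2 hN).1, sgl_ne ((Q3_p42 z hz).2 hN).2 _⟩⟩)
      (Eig_mono (fun z hz => ⟨?_, rfl⟩) hvm) (fun z hz hne => ⟨?_, (if_neg hne).symm⟩) (if_pos rfl)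
    · simp only [Q3, Bool.and_eq_true, Bool.not_eq_true', decide_eq_false_iff_not] at hz
      exact Pi'_iff.2 ⟨hz.1.1, hz.1.2⟩
    · exact S4_u z (Pi'_iff.1 hz).1 hne (Pi'_iff.1 hz).2
  set κ : F := (kap (sr i1) (sr i3) : F) with hκ
  have hNe : Nc (sr i1) (sr i3) ≠ 0 := three_ok.2.2.2.2.2.2.2.2.2.2.2.2.2.2.2.2.2.2.2.2.2.1
  have hSe : sm (sr i1) (sr i3) = r57 := three_ok.2.2.2.2.2.2.2.2.2.2.2.2.2.2.2.2.2.2.2.2.2.2.1
  have hκ0 : κ ≠ 0 := kap_ne hNe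
  have h42 : Pi' i1 (sr i3) = true := Pi'_iff.2 ⟨sr_pos i3, f10⟩
  have hmove : ∀ (u t : F), ∀ w ∈ Eig ρ (Pi' i1) (cc t),
      ∀ z, ρ (x (sr i3) z) (ρ (x (sr i1) u) w) = ψ ((t - κ * u * σ) * z) • ρ (x (sr i1) u) w := by
    intro u t w hw z
    rw [move (sr i1) u u_move hw (sr i3) h42 z]
    congr 3
  have hvfix : ∀ u, ρ (x (sr i1) u) v = v := fun u => by
    rw [hvm (sr i1) (Pi'_iff.2 ⟨sr_pos i1, Ne.symm f10⟩) u, sgl_ne f9, zero_mul, AddChar.map_zero_eq_one, one_smul]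
  -- all components are non-zero
  have hbne : Pj ρ (sr i3) b v ≠ 0 := by
    intro hb0
    refine hy0' (rho_inj ρ (g := nn F i3) (show v = 0 from ?_))
    rw [← sum_Pj (ρ := ρ) (sr i3) v]
    refine Finset.sum_eq_zero fun t _ => ?_
    set u : F := (b - t) / (κ * σ) with hu
    conv_lhs => rw [← hvfix u, ← sum_Pj (ρ := ρ) (sr i3) v]
    rw [map_sum, map_sum]
    refine Finset.sum_eq_zero fun t' _ => ?_
    rw [Pj_eigen t (t' - κ * u * σ) (hmove u t' _ (hcomp t'))]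
    split_ifs with ht
    · rw [show t' = b by rw [hu] at ht; field_simp at ht; linear_combination -ht, hb0, map_zero]
    · rfl
  set M := ρ (nn F i1) (Pj ρ (sr i3) b v) with hM
  have hM0 : M ≠ 0 := fun h => hbne (rho_inj ρ h)
  set σ' : F := et F i1 r57 * σ with hσ'
  set β' : F := et F i1 (sr i3) * b with hβ'
  have hMm : M ∈ Eig ρ (Pi' i1)
      (fun a => if a = r57 then β' else sgl (sr i3) σ' a) := by
    refine move_nn i1 (fun a ha => ⟨?_, ?_⟩) (hcomp b)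
    · obtain ⟨h1, h2⟩ := Pi'_iff.1 ha
      exact Pi'_iff.2 ⟨(pi_ok i1 a h1 h2).1, (pi_ok i1 a h1 h2).2.1⟩
    · simp only [hcc]
      by_cases h7 : a = r57
      · rw [if_pos h7, h7, f3, if_pos rfl]
      · rw [if_neg h7, if_neg (fun e => h7 (by rw [← rf_rf i1 a, e, f4]))]
        by_cases h3 : a = sr i3
        · rw [h3, sgl_self, f4, sgl_self]
        · rw [sgl_ne h3, sgl_ne (fun e => h3 (by rw [← rf_rf i1 a, e, f3])), mul_zero]
  have hb' : β' ≠ 0 := mul_ne_zero (et_ne _ _) (mul_ne_zero (et_ne _ _) (et_ne _ _))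
  refine hM0 ?_
  have hzero : ∑ u : F, ρ (x (sr i1) u) M = 0 := by
    have hproj : Pj ρ (sr i1) 0 M = (Fintype.card F : ℂ)⁻¹ • ∑ u : F, ρ (x (sr i1) u) M := by
      simp [Pj, CfsgLib.RadicalBound.proj, chr_apply]
    rw [e'] at hproj
    exact (smul_eq_zero.1 hproj.symm).resolve_left (inv_ne_zero (Nat.cast_ne_zero.2 Fintype.card_ne_zero))
  have hMmove : ∀ (u z : F), ρ (x (sr i3) z) (ρ (x (sr i1) u) M) =
      ψ ((σ' - κ * u * β') * z) • ρ (x (sr i1) u) M := by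
    intro u z
    rw [move (sr i1) u u_move hMm (sr i3) h42 z]
    congr 3
  have h := congrArg (Pj ρ (sr i3) σ') hzero
  rw [map_sum, map_zero, Finset.sum_eq_single (0 : F) (fun u _ hu => ?_) (by simp)] at h
  · rw [Pj_eigen σ' (σ' - κ * 0 * β') (hMmove 0), if_pos (by ring), x_zero, map_one, Module.End.one_apply] at h
    exact h
  · rw [Pj_eigen σ' (σ' - κ * u * β') (hMmove u), if_neg]
    intro hh'
    exact mul_ne_zero (mul_ne_zero hκ0 hu) hb' (by linear_combination hh')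

variable (h6 : Line ρ none (rad i6) (lev i6))

include h0 h6 in
/-- The test vector. -/
theorem exists_test [Fintype (GG F)] : ∃ w : X0 ρ, Aop ρ 0 w ≠ 0 ∧ ∀ n, Rank.far n = true → Aop ρ n w = 0 := by
  classical
  obtain ⟨f1, f2, f3, f4, f5, f6, f7, f8, f9, f10, fb, fpb, fp4, f14, f34, fp3, fC, -⟩ := three_ok
  obtain ⟨⟨y, hyR⟩, hy0, -⟩ := finrank_eq_one_iff'.1 (line_R0 h0 (one_ne_zero (α := F))).1
  have hy0' : y ≠ 0 := fun e => hy0 (Subtype.ext e)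
  have hy : y ∈ Eig ρ S4 (sgl (sr i1) (1 : F)) := line_S4 h0 one_ne_zero hyR
  set x0 := Pj ρ (sr i1) 0 (ρ (nn F i1) y) with hx0
  have hny := (pi_zero (i := i1) (S4_to_pi hy fun a ha => sgl_ne ha (1 : F))).1
  have hx0m : x0 ∈ Eig ρ S4 (0 : Rt → F) :=
    Pj_pi 0 (fun b hb => ⟨(Pi1_p56 b hb).1, fun hN => ⟨((Pi1_p56 b hb).2 hN).1, rfl⟩⟩) hny
      (fun b hb hne => ⟨Pi'_iff.2 ⟨hb, hne⟩, rfl⟩) rfl
  set x1 := ∑ t : Fˣ, ρ (hh i3 t) x0 with hx1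
  have hfar : ∀ n, Rank.far n = true → ∀ b, (b = sr (ixk n) ∨ b = (sr (ixk n)).rev) →
      ∀ u, ρ (x b u) x0 = x0 := by
    intro n hn b hb u
    obtain ⟨g1, g2, g3, g4, g5, g6⟩ := far_ok n hn b hb
    rw [hx0, Pj_comm (ρ := ρ) (x b u) 1 one_ne_zero (fun w => by rw [one_mul, conj_zero g5 g4 u w]), zero_div,
      ← rho_mul (ρ := ρ) (x b u), x_nn, g3, rho_mul, (line_R0 h0 one_ne_zero).2 b g1 g2 _ y hyR]
  have hfarh : ∀ n, Rank.far n = true → ∀ t, ρ (hh (ixk n) t) x0 = x0 := fun n hn t => by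
    rw [hh_eq, hr, rho_mul, fixed_nr (hfar n hn), fixed_nr (hfar n hn)]
  have hbeta : ∀ t, ρ (hr beta t) x0 = x0 := fun t => by
    rw [hx0, Pj_comm (ρ := ρ) (hr beta t) 1 one_ne_zero (fun w => by
      rw [hr_x, fpb, zpow_zero, Units.val_one]), zero_div, ← rho_mul (ρ := ρ) (hr beta t), hr_nn, fb, rho_mul,
      line_fixed h0 h6 one_ne_zero t hyR]
  have hcomm : ∀ r t', ρ (hr r t') x1 = ∑ t : Fˣ, ρ (hh i3 t) (ρ (hr r t') x0) := fun r t' => by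
    rw [hx1, map_sum]
    exact Finset.sum_congr rfl fun t _ => by rw [← rho_mul, hh_eq, hr_comm, rho_mul]
  have h1TF : x1 ∈ TF ρ := by
    have hothers : ∀ j : Ix, j ≠ i1 → ∀ t', ρ (hh j t') x1 = x1 := by
      intro j hj t'
      by_cases h3 : j = i3
      · rw [h3, hx1, map_sum]
        refine Fintype.sum_equiv (Equiv.mulLeft t') _ _ fun t => ?_
        rw [Equiv.coe_mulLeft, hh_eq, hh_eq, hh_eq, hr_mul, rho_mul]
      · obtain ⟨n, rfl⟩ : ∃ n : Fin 6, ixk n = j := ⟨⟨j.val, j.isLt⟩, rfl⟩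
        have hn : Rank.far n = true := by
          revert hj h3; revert n; decide +kernel
        rw [hh_eq, hcomm, ← hh_eq, hfarh n hn t']
    intro j t'
    by_cases hj : j = i1
    · have e : ρ (hr beta t') x1 = x1 := by rw [hcomm, hbeta]
      rw [hr_prod] at e
      rw [show (List.ofFn fun k : Ix => hh k (t' ^ CfsgLib.Chev.chevE6.C beta k)) =
        hh i1 (t' ^ CfsgLib.Chev.chevE6.C beta i1) :: List.ofFn (fun m : Fin 5 =>
          hh (ixk m.succ) (t' ^ CfsgLib.Chev.chevE6.C beta (ixk m.succ))) from List.ofFn_succ, List.prod_cons,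
        rho_mul, fC, zpow_one, fix_prod _ (fun g hg => by
          obtain ⟨m, rfl⟩ := List.mem_ofFn.1 hg
          refine hothers _ (fun e => ?_) _
          have := congrArg Fin.val e
          simp [ixk, i1] at this)] at e
      rw [hj]; exact e
    · exact hothers j hj t'
  have h1m : x1 ∈ X0 ρ := Submodule.mem_inf.2
    ⟨Submodule.sum_mem _ fun t _ => move_hr_zero _ t hx0m, h1TF⟩
  have hphi : phi ρ x1 = (Fintype.card Fˣ : ℂ) • phi ρ x0 := by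
    rw [hx1, map_sum, Nat.cast_smul_eq_nsmul ℂ, ← Finset.card_univ, ← Finset.sum_const]
    refine Finset.sum_congr rfl fun t _ => ?_
    have e : ρ (hh i3 t) x0 = ρ (hr r43 t) x0 := by
      rw [hr43, rho_mul, show ρ (hh i4 t) x0 = x0 from hfarh 3 (by decide) t]
    have hlow := phi_low (ρ := ρ) hx0m
    rw [e]
    calc phi ρ (ρ (hr r43 t) x0) = ρ (hr (sr i4) t) (phi ρ x0) := by
          rw [phi_apply, phi_apply, Pj_comm (ρ := ρ) (hr (sr i4) t) 1 one_ne_zero (fun u => by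
            rw [hr_x, fp4, zpow_zero, Units.val_one]),
            Pj_comm (ρ := ρ) (hr (sr i4) t) ((t ^ pair (sr i4) r57 : Fˣ) : F) (Units.ne_zero _)
              (fun u => hr_x (sr i4) r57 t u), zero_div, div_one,
            ← rho_mul (ρ := ρ) (hr (sr i4) t), hr_nn, f14, rho_mul, ← rho_mul (ρ := ρ) (hr (sr i4) t), hr_nn,
            f34, rho_mul]
      _ = phi ρ x0 := far_fix_line h0 one_ne_zero hlow (n := 3) (by decide) t
  have hx1ne : x1 ≠ 0 := fun e => by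
    rw [e, map_zero] at hphi
    rcases smul_eq_zero.1 hphi.symm with h | h
    · exact Nat.cast_ne_zero.2 Fintype.card_ne_zero h
    · exact phi_ne h0 one_ne_zero hy0' hy h
  refine ⟨⟨x1, h1m⟩, fun hA => hx1ne ?_, fun n hn => Subtype.ext ?_⟩
  · have hT : Hop ρ i1 x1 = (Fintype.card F : ℂ) • x1 := by
      have := congrArg Subtype.val hA
      rw [Aop_val, Submodule.coe_zero, sub_eq_zero] at this
      exact this
    have hproj : ∀ v, Pj ρ (sr i1) (0 : F) v = (Fintype.card F : ℂ)⁻¹ • avg ρ (sr i1) v := fun v => by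
      simp [Pj, CfsgLib.RadicalBound.proj, chr_apply, avg_apply]
    have hq : (Fintype.card F : ℂ) ≠ 0 := Nat.cast_ne_zero.2 Fintype.card_ne_zero
    have hn1 : ρ (nn F i1) x1 = x1 := by
      refine fixed_of_Pj (a := sr i1) ?_ ?_
      · exact (Pj_eigen (0 : F) 0 (fun u => (Submodule.mem_inf.1 h1m).1 (sr i1) (sr_pos i1) u)).trans (if_pos rfl)
      · rw [hproj, ← Hop_apply, hT, smul_smul, inv_mul_cancel₀ hq, one_smul]
    set η := ∑ t : Fˣ, ρ (hr r57 t) y with hη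
    have hx1η : x1 = Pj ρ (sr i1) 0 (ρ (nn F i1) η) := by
      rw [hx1, hη, map_sum, map_sum]
      refine Finset.sum_congr rfl fun t _ => ?_
      rw [hx0, hh_eq, Pj_comm (ρ := ρ) (hr (sr i3) t) ((t ^ pair (sr i3) (sr i1) : Fˣ) : F) (Units.ne_zero _)
        (fun u => hr_x (sr i3) (sr i1) t u), zero_div, ← rho_mul (ρ := ρ) (hr (sr i3) t), hr_nn, f4, rho_mul]
    have hη0 : Pj ρ (sr i1) (0 : F) η = 0 := by
      rw [hη, map_sum]
      refine Finset.sum_eq_zero fun t _ => ?_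
      have hm := move_hr r57 (sr i1) (1 : F) t hy (sr i1) (sr_pos i1)
      rw [sgl_self] at hm
      rw [Pj_eigen (0 : F) _ hm, if_neg (Ne.symm (mul_ne_zero (Units.ne_zero _) one_ne_zero))]
    have hP1 : Pj ρ (sr i1) (0 : F) x1 = x1 :=
      (Pj_eigen (0 : F) 0 (fun u => (Submodule.mem_inf.1 h1m).1 (sr i1) (sr_pos i1) u)).trans (if_pos rfl)
    refine eq_zero_of_form ρ ?_
    calc form ρ x1 x1 = form ρ x1 (Pj ρ (sr i1) 0 (ρ (nn F i1) η)) := by rw [← hx1η]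
      _ = form ρ (Pj ρ (sr i1) 0 x1) (ρ (nn F i1) η) := (form_Pj_zero _ _ _).symm
      _ = form ρ (ρ (nn F i1) x1) (ρ (nn F i1) η) := by rw [hP1, hn1]
      _ = form ρ (Pj ρ (sr i1) 0 x1) η := by rw [form_inv, hP1]
      _ = form ρ x1 (Pj ρ (sr i1) 0 η) := form_Pj_zero _ _ _
      _ = 0 := by rw [hη0]; simp [form]
  · have hfix : ∀ b, (b = sr (ixk n) ∨ b = (sr (ixk n)).rev) → ∀ u, ρ (x b u) x1 = x1 := fun b hb u => by
      rw [hx1, map_sum]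
      exact Finset.sum_congr rfl fun t _ => by rw [← rho_mul, hh_eq, x_hr, rho_mul, hfar n hn b hb]
    rw [Aop_val, Hop_apply]
    show avg ρ _ (ρ (nr (sr (ixk n)) 1) x1) - _ = _
    rw [fixed_nr hfix, avg_fixed (hfix _ (Or.inl rfl)), sub_self]
    rfl

include h0 h6 in
theorem six_le_fixed : 6 ≤ Module.finrank ℂ (Eig ρ S4 (0 : Rt → F)) := by
  classical
  haveI : Fintype (GG F) := Fintype.ofFinite _
  obtain ⟨w, hw, hfar⟩ := exists_test h0 h6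
  have := Rank.six_le (A := Aop ρ) Fintype.one_lt_card rels (rank_first h0) hw hfar
  exact this.trans (Submodule.finrank_mono inf_le_left)

end CfsgLib.E6Deg
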